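import Cfsg.Agent.Lib.PrimeLine.Main

/-!
From a doubly transitive action of `PSL(2, p)` on `p + 1` points to the projective line.
-/

set_option autoImplicit false

namespace Cfsg.Agent.Lib.PrimeLine

open Finset Equiv

noncomputable section

attribute [local instance] Classical.propDecidable

variable {p : ℕ} [Fact p.Prime]

local notation "SL₂" => Matrix.SpecialLinearGroup (Fin 2) (ZMod p)

/-- Upper unipotent matrices. -/
def uMat (b : ZMod p) : SL₂ := ⟨!![1, b; 0, 1], by simp [Matrix.det_fin_two]⟩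

/-- Diagonal matrices. -/
def tMat (a : ZMod p) (ha : a ≠ 0) : SL₂ := ⟨!![a, 0; 0, a⁻¹], by simp [Matrix.det_fin_two, ha]⟩

/-- The Weyl element. -/
def wMat : SL₂ := ⟨!![0, -1; 1, 0], by simp [Matrix.det_fin_two]⟩

theorem uMat_val (b : ZMod p) : (uMat b : Matrix (Fin 2) (Fin 2) (ZMod p)) = !![1, b; 0, 1] := rfl

theorem tMat_val (a : ZMod p) (ha : a ≠ 0) :
    (tMat a ha : Matrix (Fin 2) (Fin 2) (ZMod p)) = !![a, 0; 0, a⁻¹] := rfl

theorem wMat_val : ((wMat : SL₂) : Matrix (Fin 2) (Fin 2) (ZMod p)) = !![0, -1; 1, 0] := rfl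

theorem uMat_add (x y : ZMod p) : uMat (x + y) = uMat x * uMat y := by
  ext i j; fin_cases i <;> fin_cases j <;> simp [uMat_val, Matrix.SpecialLinearGroup.coe_mul, Matrix.mul_apply, Fin.sum_univ_two, add_comm]

theorem uMat_zero : uMat (0 : ZMod p) = 1 := by
  ext i j; fin_cases i <;> fin_cases j <;> simp [uMat_val]

theorem uMat_pow (x : ZMod p) (n : ℕ) : uMat x ^ n = uMat ((n : ZMod p) * x) := by
  induction n with
  | zero => simp [uMat_zero]
  | succ n ih => rw [pow_succ, ih, ← uMat_add]; push_cast; ring_nf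

theorem tMat_uMat (a x : ZMod p) (ha : a ≠ 0) : tMat a ha * uMat x = uMat (a * a * x) * tMat a ha := by
  ext i j; fin_cases i <;> fin_cases j <;>
    simp [uMat_val, tMat_val, Matrix.SpecialLinearGroup.coe_mul, Matrix.mul_apply, Fin.sum_univ_two] <;> field_simp

theorem tMat_wMat (a : ZMod p) (ha : a ≠ 0) : tMat a ha * wMat = wMat * tMat a⁻¹ (inv_ne_zero ha) := by
  ext i j; fin_cases i <;> fin_cases j <;> simp [wMat_val, tMat_val, Matrix.SpecialLinearGroup.coe_mul, Matrix.mul_apply, Fin.sum_univ_two]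

theorem wMat_sq : (wMat : SL₂) * wMat = tMat (-1) (neg_ne_zero.2 one_ne_zero) := by
  ext i j; fin_cases i <;> fin_cases j <;> simp [wMat_val, tMat_val, Matrix.SpecialLinearGroup.coe_mul, Matrix.mul_apply, Fin.sum_univ_two, inv_neg]

theorem wuw (x : ZMod p) (hx : x ≠ 0) :
    wMat * uMat x * wMat = uMat (-x⁻¹) * wMat * (uMat (-x) * tMat x hx) := by
  ext i j; fin_cases i <;> fin_cases j <;>
    simp [uMat_val, wMat_val, tMat_val, Matrix.SpecialLinearGroup.coe_mul, Matrix.mul_apply, Fin.sum_univ_two] <;> field_simp <;> ring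

theorem bruhat_SL₂ (g : SL₂) :
    (∃ (b a : ZMod p) (ha : a ≠ 0), g = uMat b * tMat a ha) ∨
      ∃ (y b a : ZMod p) (ha : a ≠ 0), g = uMat y * wMat * (uMat b * tMat a ha) := by
  have hdet := g.det_coe
  rw [Matrix.det_fin_two] at hdet
  by_cases hc : g.1 1 0 = 0
  · rw [hc, mul_zero, sub_zero] at hdet
    have ha : g.1 0 0 ≠ 0 := fun h => by simp [h] at hdet
    refine Or.inl ⟨g.1 0 0 * g.1 0 1, g.1 0 0, ha, ?_⟩
    have hd : g.1 1 1 = (g.1 0 0)⁻¹ := (inv_eq_of_mul_eq_one_right hdet).symm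
    ext i j; fin_cases i <;> fin_cases j <;>
      simp [uMat_val, tMat_val, Matrix.SpecialLinearGroup.coe_mul, Matrix.mul_apply, Fin.sum_univ_two, hc, hd] <;> field_simp
  · refine Or.inr ⟨g.1 0 0 / g.1 1 0, g.1 1 0 * g.1 1 1, g.1 1 0, hc, ?_⟩
    ext i j; fin_cases i <;> fin_cases j <;>
      simp [uMat_val, tMat_val, wMat_val, Matrix.SpecialLinearGroup.coe_mul, Matrix.mul_apply, Fin.sum_univ_two] <;> field_simp
    linear_combination -hdet

theorem uMat_one_not_central : uMat (1 : ZMod p) ∉ Subgroup.center SL₂ := by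
  intro h
  have := Subgroup.mem_center_iff.1 h wMat
  have e := congrFun (congrFun (congrArg Subtype.val this) 0) 0
  simp [uMat_val, wMat_val, Matrix.SpecialLinearGroup.coe_mul, Matrix.mul_apply, Fin.sum_univ_two] at e

theorem sign_optionCongr_eq {α : Type*} [Fintype α] [DecidableEq α] (e : Perm α) :
    Perm.sign e.optionCongr = Perm.sign e := Equiv.optionCongr_sign e

/-- A nonsquare scaling is odd. -/
theorem sign_aff_generator {g : (ZMod p)ˣ} (hg : ∀ y : (ZMod p)ˣ, y ∈ Submonoid.powers g) (hp : 2 < p) :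
    Perm.sign (aff (g : ZMod p) 0) = -1 := by
  set σ := aff (g : ZMod p) 0 with hσ
  have happ : ∀ x, σ x = g * x := fun x => by rw [hσ, aff_apply g.ne_zero, add_zero]
  have hpow : ∀ (n : ℕ) x, (σ ^ n) x = (g : ZMod p) ^ n * x := by
    intro n
    induction n with
    | zero => simp
    | succ n ih => intro x; rw [pow_succ', Perm.mul_apply, ih, happ]; ring
  have hg1 : (g : ZMod p) ≠ 1 := by
    intro e
    have hone : g = 1 := Units.ext e
    have hall : ∀ y : (ZMod p)ˣ, y = 1 := fun y => by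
      obtain ⟨n, hn⟩ := hg y
      rw [← hn, hone]; simp
    have hle := Fintype.card_le_one_iff.2 fun a b : (ZMod p)ˣ => (hall a).trans (hall b).symm
    rw [ZMod.card_units] at hle
    omega
  have hsupp : σ.support = univ.erase 0 := by
    ext x
    rw [Perm.mem_support, happ, mem_erase]
    constructor
    · exact fun h => ⟨fun h0 => h (by rw [h0, mul_zero]), mem_univ _⟩
    · exact fun h e => hg1 (mul_right_cancel₀ h.1 (e.trans (one_mul x).symm))
  have hcyc : σ.IsCycle := by
    refine ⟨1, by rw [happ, mul_one]; exact hg1, fun y hy => ?_⟩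
    have hy0 : y ≠ 0 := fun h => hy (by rw [happ, h, mul_zero])
    obtain ⟨n, hn⟩ := hg (Units.mk0 y hy0)
    refine ⟨(n : ℤ), ?_⟩
    rw [zpow_natCast, hpow, mul_one, ← Units.val_pow_eq_pow_val]
    exact congrArg Units.val hn
  have hodd : Odd p := (Fact.out : p.Prime).odd_of_ne_two (by omega)
  rw [hcyc.sign, hsupp, card_erase_of_mem (mem_univ _), card_univ, ZMod.card, Even.neg_one_pow]
  obtain ⟨r, hr⟩ := hodd
  exact ⟨r, by omega⟩

section

variable {Ω : Type*} [Fintype Ω] [DecidableEq Ω]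

/-- An element of order `p` on `p + 1` points fixes exactly one. -/
theorem exists_unique_fixed {σ : Perm Ω} (hσ : orderOf σ = p) (hΩ : Fintype.card Ω = p + 1) :
    ∃ i, σ i = i ∧ ∀ z, σ z = z → z = i := by
  have hp := (Fact.out : p.Prime)
  have hcyc : σ.IsCycle := Perm.isCycle_of_prime_order' (by rw [hσ]; exact hp) (by
    rw [hσ, hΩ]; have := hp.two_le; omega)
  have hc : σ.supportᶜ.card = 1 := by
    rw [card_compl, hΩ, ← hcyc.orderOf, hσ]; omega
  obtain ⟨i, hi⟩ := card_eq_one.1 hc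
  have hmem : ∀ z, z ∈ σ.supportᶜ ↔ σ z = z := fun z => by simp
  refine ⟨i, (hmem i).1 (hi ▸ mem_singleton_self i), fun z hz => ?_⟩
  have := (hmem z).2 hz
  rwa [hi, mem_singleton] at this

/-- Coordinates for a transitive, fixed-point-moving action of `SL(2, p)` on `p + 1` points. -/
theorem exists_coords (ρ : SL₂ →* Perm Ω) (hΩ : Fintype.card Ω = p + 1) (hu : ρ (uMat 1) ≠ 1)
    (htr : ∀ a b : Ω, ∃ g, ρ g a = b) :
    ∃ e : Ω ≃ Option (ZMod p),
      (∀ b : ZMod p, ∀ o, e (ρ (uMat b) (e.symm o)) = (Equiv.addRight b).optionCongr o) ∧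
      (∀ a : ZMod p, ∀ ha : a ≠ 0, ∀ o, e (ρ (tMat a ha) (e.symm o)) = (aff (a * a) 0).optionCongr o) ∧
      ∀ o, e (ρ wMat (e.symm o)) = wo o := by
  have hp := (Fact.out : p.Prime)
  have hord : orderOf (ρ (uMat 1)) = p := by
    refine orderOf_eq_prime ?_ hu
    rw [← map_pow, uMat_pow, ZMod.natCast_self, zero_mul, uMat_zero, map_one]
  obtain ⟨i, hi, huni⟩ := exists_unique_fixed hord hΩ
  have hfixu : ∀ b, ρ (uMat b) i = i := fun b => by
    rw [show b = (b.val : ZMod p) * 1 by rw [mul_one, ZMod.natCast_zmod_val], ← uMat_pow, map_pow]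
    exact Perm.pow_apply_eq_self_of_apply_eq_self hi _
  have hfix : ∀ b, b ≠ 0 → ∀ z, ρ (uMat b) z = z → z = i := fun b hb z hz => by
    refine huni z ?_
    rw [show (1 : ZMod p) = ((b⁻¹).val : ZMod p) * b by rw [ZMod.natCast_zmod_val, inv_mul_cancel₀ hb],
      ← uMat_pow, map_pow]
    exact Perm.pow_apply_eq_self_of_apply_eq_self hz _
  have hfixt : ∀ a ha, ρ (tMat a ha) i = i := fun a ha => by
    refine hfix (a * a * 1) (by simp [ha]) _ ?_
    rw [← Perm.mul_apply, ← map_mul, ← tMat_uMat, map_mul, Perm.mul_apply, hfixu]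
  have hfixB : ∀ b a ha, ρ (uMat b * tMat a ha) i = i := fun b a ha => by
    rw [map_mul, Perm.mul_apply, hfixt, hfixu]
  have how : ρ wMat i ≠ i := by
    intro hw
    have hall : ∀ g, ρ g i = i := by
      intro g
      rcases bruhat_SL₂ g with ⟨b, a, ha, rfl⟩ | ⟨y, b, a, ha, rfl⟩
      · exact hfixB b a ha
      · rw [map_mul, Perm.mul_apply, hfixB, map_mul, Perm.mul_apply, hw, hfixu]
    obtain ⟨z, hz⟩ := Fintype.exists_ne_of_one_lt_card (by rw [hΩ]; have := hp.two_le; omega) i
    obtain ⟨g, hg⟩ := htr i z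
    exact hz (by rw [← hg, hall])
  set F : Option (ZMod p) → Ω := fun o => o.elim i fun x => ρ (uMat x) (ρ wMat i) with hF
  have hFn : F none = i := rfl
  have hFs : ∀ x, F (some x) = ρ (uMat x) (ρ wMat i) := fun _ => rfl
  have hne : ∀ x, F (some x) ≠ i := fun x h => by
    rw [hFs] at h
    exact how ((ρ (uMat x)).injective (h.trans (hfixu x).symm))
  have hinj : Function.Injective F := by
    rintro (_ | x) (_ | y) h
    · rfl
    · exact absurd h.symm (hne y)
    · exact absurd h (hne x)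
    · rw [hFs, hFs] at h
      by_contra hxy
      refine how (hfix (x - y) (sub_ne_zero.2 fun e => hxy (by rw [e])) _ ?_)
      apply (ρ (uMat y)).injective
      rw [← h, ← Perm.mul_apply, ← map_mul, ← uMat_add, add_sub_cancel]
  have hbij : Function.Bijective F := by
    refine (Fintype.bijective_iff_injective_and_card F).2 ⟨hinj, ?_⟩
    rw [hΩ, Fintype.card_option, ZMod.card]
  let e : Ω ≃ Option (ZMod p) := (Equiv.ofBijective F hbij).symm
  have key : ∀ (σ : Perm Ω) (o o' : Option (ZMod p)), σ (F o) = F o' → e (σ (e.symm o)) = o' := by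
    intro σ o o' h
    rw [Equiv.apply_eq_iff_eq_symm_apply]
    exact h
  refine ⟨e, fun b o => key _ _ _ ?_, fun a ha o => key _ _ _ ?_, fun o => key _ _ _ ?_⟩
  · rcases o with _ | x
    · simp [hFn, hfixu]
    · simp only [Equiv.optionCongr_apply, Option.map_some, Equiv.coe_addRight, hFs]
      rw [← Perm.mul_apply, ← map_mul, ← uMat_add, add_comm]
  · rcases o with _ | x
    · simp [hFn, hfixt]
    · simp only [Equiv.optionCongr_apply, Option.map_some, aff_apply (mul_ne_zero ha ha), add_zero, hFs]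
      rw [← Perm.mul_apply, ← map_mul, tMat_uMat, map_mul, Perm.mul_apply, ← Perm.mul_apply (ρ (tMat a ha)),
        ← map_mul, tMat_wMat, map_mul, Perm.mul_apply, hfixt]
  · rcases o with _ | x
    · rw [wo_none, hFn, hFs, uMat_zero, map_one, Perm.one_apply]
    · rw [hFs]
      by_cases hx : x = 0
      · subst hx
        rw [wo_zero, hFn, uMat_zero, map_one, Perm.one_apply, ← Perm.mul_apply, ← map_mul, wMat_sq, hfixt]
      · rw [wo_some hx, hFs, ← Perm.mul_apply, ← map_mul, ← Perm.mul_apply, ← map_mul, wuw x hx, map_mul,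
          Perm.mul_apply, hfixB, map_mul, Perm.mul_apply]

end

end

end Cfsg.Agent.Lib.PrimeLine
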