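import Cfsg.Agent.Lib.PrimeLine.Span

/-!
Groups on the projective line over `ZMod p` containing `x ↦ a x + b` (`a` a square) and `x ↦ -1/x`, not affine
at infinity: three transitivity, at most two orbits of a three-point stabiliser, and the quadruple relation.
-/

set_option autoImplicit false

namespace Cfsg.Agent.Lib.PrimeLine

open Finset Equiv

noncomputable section

attribute [local instance] Classical.propDecidable

variable {p : ℕ} [Fact p.Prime]

/-- `x ↦ a x + b`. -/
def aff (a b : ZMod p) : Perm (ZMod p) :=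
  if h : a = 0 then 1 else (Equiv.mulLeft₀ a h).trans (Equiv.addRight b)

theorem aff_apply {a : ZMod p} (ha : a ≠ 0) (b x : ZMod p) : aff a b x = a * x + b := by
  simp [aff, ha]

/-- `x ↦ -1/x` on the projective line. -/
def wfun : Option (ZMod p) → Option (ZMod p)
  | none => some 0
  | some x => if x = 0 then none else some (-x⁻¹)

theorem wfun_invol : Function.Involutive (wfun (p := p)) := by
  rintro (_ | x)
  · simp [wfun]
  · by_cases h : x = 0
    · simp [wfun, h]
    · simp [wfun, h, inv_neg]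

/-- `x ↦ -1/x` as a permutation. -/
def wo : Perm (Option (ZMod p)) := wfun_invol.toPerm

@[simp] theorem wo_none : wo (none : Option (ZMod p)) = some 0 := rfl

@[simp] theorem wo_zero : wo (some (0 : ZMod p)) = none := by
  show wfun (some (0 : ZMod p)) = none
  simp [wfun]

theorem wo_some {x : ZMod p} (h : x ≠ 0) : wo (some x) = some (-x⁻¹) := by
  show wfun (some x) = _
  simp [wfun, h]

variable {X : Subgroup (Perm (Option (ZMod p)))}

/-- The hypotheses on the group. -/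
structure LineGrp (X : Subgroup (Perm (Option (ZMod p)))) : Prop where
  hp : 7 < p
  aff_mem : ∀ a b : ZMod p, IsSquare a → a ≠ 0 → (aff a b).optionCongr ∈ X
  w_mem : wo ∈ X
  naff : ∃ g : Perm (ZMod p), g.optionCongr ∈ X ∧ ¬ ∃ a b : ZMod p, ∀ x, g x = a * x + b

/-- The stabiliser of infinity, on the affine points. -/
def atInf (X : Subgroup (Perm (Option (ZMod p)))) : Subgroup (Perm (ZMod p)) where
  carrier := {g | g.optionCongr ∈ X}
  one_mem' := by
    show (1 : Perm (ZMod p)).optionCongr ∈ X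
    rw [show (1 : Perm (ZMod p)).optionCongr = 1 from Equiv.optionCongr_refl]
    exact one_mem X
  mul_mem' := by
    intro a b ha hb
    show (a * b).optionCongr ∈ X
    rw [show (a * b).optionCongr = a.optionCongr * b.optionCongr by ext o; cases o <;> simp]
    exact mul_mem ha hb
  inv_mem' := by
    intro a ha
    show a⁻¹.optionCongr ∈ X
    rw [show a⁻¹.optionCongr = (a.optionCongr)⁻¹ from (Equiv.optionCongr_symm a).symm]
    exact inv_mem ha

theorem mem_atInf {g : Perm (ZMod p)} : g ∈ atInf X ↔ g.optionCongr ∈ X := Iff.rfl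

theorem exists_atInf {x : Perm (Option (ZMod p))} (hx : x ∈ X) (h : x none = none) :
    ∃ g ∈ atInf X, ∀ u, x (some u) = some (g u) := by
  have key : ∀ u, some (x.removeNone u) = x (some u) := fun u => by
    refine Equiv.removeNone_some x ?_
    rcases e : x (some u) with _ | v
    · exact absurd (x.injective (e.trans h.symm)) (Option.some_ne_none u)
    · exact ⟨v, rfl⟩
  refine ⟨x.removeNone, ?_, fun u => (key u).symm⟩
  rw [mem_atInf]
  convert hx using 1
  refine Equiv.ext fun o => ?_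
  cases o with
  | none => exact h.symm
  | some u => exact key u

theorem LineGrp.aff_atInf (L : LineGrp X) {a : ZMod p} (ha : IsSquare a) (ha' : a ≠ 0) (b : ZMod p) :
    aff a b ∈ atInf X := L.aff_mem a b ha ha'

theorem LineGrp.trans_atInf (L : LineGrp X) (b : ZMod p) : Equiv.addRight b ∈ atInf X := by
  have := L.aff_atInf IsSquare.one one_ne_zero b
  convert this using 1
  ext x
  rw [aff_apply one_ne_zero]
  simp

theorem LineGrp.natCast_ne_zero (L : LineGrp X) {n : ℕ} (h0 : 0 < n) (h : n ≤ 7) : (n : ZMod p) ≠ 0 := by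
  intro e
  have := Nat.le_of_dvd h0 ((ZMod.natCast_eq_zero_iff _ _).1 e)
  have := L.hp
  omega

theorem LineGrp.odd (L : LineGrp X) : p % 2 = 1 :=
  (Fact.out : p.Prime).eq_two_or_odd.resolve_left (by have := L.hp; omega)

theorem LineGrp.no_ann (L : LineGrp X) (w : ZMod p → ZMod p) (hw : ∀ g ∈ atInf X, ∑ x, w x * g x = 0) :
    ∀ x, w x = w 0 := by
  by_contra hne
  rw [not_forall] at hne
  obtain ⟨g, hg, hna⟩ := L.naff
  exact hna (affine_of_ann _ L.trans_atInf w hw hne g hg)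

/-- The stabiliser of zero is transitive on the other points (Burnside). -/
theorem LineGrp.trans0 (L : LineGrp X) {u : ZMod p} (hu : u ≠ 0) : ∃ g ∈ atInf X, g 0 = 0 ∧ g 1 = u := by
  set O := univ.filter fun v : ZMod p => ∃ g ∈ atInf X, g 0 = 0 ∧ g 1 = v with hO
  have hmem : ∀ v, v ∈ O ↔ ∃ g ∈ atInf X, g 0 = 0 ∧ g 1 = v := fun v => by simp [hO]
  have hscale : ∀ v ∈ O, ∀ a : ZMod p, IsSquare a → a ≠ 0 → a * v ∈ O := by
    intro v hv a ha ha'
    obtain ⟨g, hg, h0, h1⟩ := (hmem v).1 hv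
    exact (hmem _).2 ⟨_, mul_mem (L.aff_atInf ha ha' 0) hg, by simp [aff_apply ha', h0],
      by simp [aff_apply ha', h1]⟩
  have h1 : (1 : ZMod p) ∈ O := (hmem 1).2 ⟨1, one_mem _, rfl, rfl⟩
  have hsq : ∀ a : ZMod p, IsSquare a → a ≠ 0 → a ∈ O := fun a ha ha' => by
    simpa using hscale 1 h1 a ha ha'
  suffices u ∈ O from (hmem u).1 this
  by_contra hu'
  have hnsu : ¬ IsSquare u := fun h => hu' (hsq u h hu)
  have hO' : ∀ v, v ∈ O ↔ IsSquare v ∧ v ≠ 0 := by
    intro v
    refine ⟨fun hv => ?_, fun h => hsq v h.1 h.2⟩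
    have hv0 : v ≠ 0 := by
      rintro rfl
      obtain ⟨g, -, h0, h1⟩ := (hmem 0).1 hv
      exact zero_ne_one (g.injective (h0.trans h1.symm))
    refine ⟨?_, hv0⟩
    by_contra hns
    have hq : IsSquare (u * v⁻¹) := by
      have hF2 : ringChar (ZMod p) ≠ 2 := by rw [ZMod.ringChar_zmod_n]; have := L.hp; omega
      have hi : ¬ IsSquare v⁻¹ := by rwa [isSquare_inv]
      rw [← quadraticChar_one_iff_isSquare (mul_ne_zero hu (inv_ne_zero hv0)), map_mul,
        quadraticChar_neg_one_iff_not_isSquare.2 hnsu, quadraticChar_neg_one_iff_not_isSquare.2 hi]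
      norm_num
    have := hscale v hv _ hq (mul_ne_zero hu (inv_ne_zero hv0))
    rw [mul_assoc, inv_mul_cancel₀ hv0, mul_one] at this
    exact hu' this
  have h4sq : IsSquare (4 : ZMod p) := ⟨2, by norm_num⟩
  have h4 : (4 : ZMod p) ≠ 0 := by exact_mod_cast L.natCast_ne_zero (n := 4) (by norm_num) (by norm_num)
  have hsum : ∑ v ∈ O, v = 0 := by
    have e : ∑ v ∈ O, v = ∑ v ∈ O, 4 * v := by
      refine sum_nbij' (fun v => 4⁻¹ * v) (fun v => 4 * v) ?_ ?_ ?_ ?_ ?_
      · intro v hv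
        simp only [mem_coe, hO'] at hv ⊢
        exact ⟨(isSquare_inv.2 h4sq).mul hv.1, mul_ne_zero (inv_ne_zero h4) hv.2⟩
      · intro v hv
        exact hscale v hv 4 h4sq h4
      · intro v _; simp [← mul_assoc, h4]
      · intro v _; simp [← mul_assoc, h4]
      · intro v _; simp [← mul_assoc, h4]
    rw [← mul_sum] at e
    have h3 : (3 : ZMod p) ≠ 0 := by exact_mod_cast L.natCast_ne_zero (n := 3) (by norm_num) (by norm_num)
    exact (mul_eq_zero.1 (show (3 : ZMod p) * ∑ v ∈ O, v = 0 by linear_combination -e)).resolve_left h3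
  have key := L.no_ann (fun x => if x ∈ O then 1 else if x = 0 then -(O.card : ZMod p) else 0) ?_
  · have e1 := key 1
    have e0 := key u
    have h0 : (0 : ZMod p) ∉ O := fun h => ((hO' 0).1 h).2 rfl
    simp only [h1, if_true, h0, if_false] at e1
    simp only [hu', if_false, hu, h0, if_true] at e0
    exact one_ne_zero (e1.trans e0.symm)
  · intro g hg
    have h0 : (0 : ZMod p) ∉ O := fun h => ((hO' 0).1 h).2 rfl
    set g' := Equiv.addRight (-(g 0)) * g with hg'
    have hg'm : g' ∈ atInf X := mul_mem (L.trans_atInf _) hg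
    have hmaps : ∀ v ∈ O, g' v ∈ O := by
      intro v hv
      obtain ⟨k, hk, k0, k1⟩ := (hmem v).1 hv
      refine (hmem _).2 ⟨g' * k, mul_mem hg'm hk, ?_, ?_⟩
      · simp [k0, hg']
      · simp [k1]
    have himg : O.image g' = O := by
      refine eq_of_subset_of_card_le (fun x hx => ?_) (card_image_of_injective _ g'.injective).ge
      obtain ⟨v, hv, rfl⟩ := mem_image.1 hx
      exact hmaps v hv
    have hz : ∑ v ∈ O, g' v = 0 := by
      rw [← hsum]
      conv_rhs => rw [← himg, sum_image fun a _ b _ h => g'.injective h]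
    have e : ∀ x, (if x ∈ O then (1 : ZMod p) else if x = 0 then -(O.card : ZMod p) else 0) * g x =
        (if x ∈ O then g x else 0) + (if x = 0 then -(O.card : ZMod p) * g 0 else 0) := by
      intro x
      by_cases hx : x ∈ O
      · have : x ≠ 0 := fun h => h0 (h ▸ hx)
        simp [hx, this]
      · by_cases hx0 : x = 0
        · subst hx0; simp [hx]
        · simp [hx, hx0]
    rw [sum_congr rfl fun x _ => e x, sum_add_distrib, sum_ite_mem, univ_inter, sum_ite_eq' univ (0 : ZMod p),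
      if_pos (mem_univ _)]
    have : ∀ v ∈ O, g v = g' v + g 0 := fun v _ => by simp [hg']
    rw [sum_congr rfl this, sum_add_distrib, hz, sum_const, nsmul_eq_mul]
    ring

theorem LineGrp.two (L : LineGrp X) {a b : ZMod p} (h : a ≠ b) : ∃ g ∈ atInf X, g 0 = a ∧ g 1 = b := by
  obtain ⟨g, hg, g0, g1⟩ := L.trans0 (sub_ne_zero.2 h.symm)
  exact ⟨Equiv.addRight a * g, mul_mem (L.trans_atInf a) hg, by simp [g0], by simp [g1]⟩

theorem LineGrp.three (L : LineGrp X) {a b c : Option (ZMod p)} (hab : a ≠ b) (hac : a ≠ c) (hbc : b ≠ c) :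
    ∃ x ∈ X, x none = a ∧ x (some 0) = b ∧ x (some 1) = c := by
  obtain ⟨y, hy, hya⟩ : ∃ y ∈ X, y none = a := by
    rcases a with _ | v
    · exact ⟨1, one_mem X, rfl⟩
    · exact ⟨(Equiv.addRight v).optionCongr * wo, mul_mem (L.trans_atInf v) L.w_mem, by simp⟩
  have hb : y⁻¹ b ≠ none := fun h => hab (by rw [← hya, ← h]; simp)
  have hc : y⁻¹ c ≠ none := fun h => hac (by rw [← hya, ← h]; simp)
  obtain ⟨b', hb'⟩ := Option.ne_none_iff_exists'.1 hb
  obtain ⟨c', hc'⟩ := Option.ne_none_iff_exists'.1 hc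
  have hne : b' ≠ c' := fun h => hbc (y⁻¹.injective (by rw [hb', hc', h]))
  obtain ⟨g, hg, g0, g1⟩ := L.two hne
  refine ⟨y * g.optionCongr, mul_mem hy hg, by simp [hya], ?_, ?_⟩
  · simp [g0, ← hb']
  · simp [g1, ← hc']

/-- The points other than `0` and `1`. -/
def UU : Finset (ZMod p) := univ.filter fun x => x ≠ 0 ∧ x ≠ 1

theorem mem_UU {x : ZMod p} : x ∈ UU ↔ x ≠ 0 ∧ x ≠ 1 := by simp [UU]

theorem card_UU : (UU : Finset (ZMod p)).card = p - 2 := by
  have : (UU : Finset (ZMod p)) = univ \ {0, 1} := by ext x; simp [UU]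
  rw [this, card_sdiff_of_subset (subset_univ _), card_univ, ZMod.card, card_pair zero_ne_one]

theorem fix_UU {g : Perm (ZMod p)} (h0 : g 0 = 0) (h1 : g 1 = 1) {x : ZMod p} (hx : x ∈ UU) : g x ∈ UU :=
  mem_UU.2 ⟨fun h => (mem_UU.1 hx).1 (g.injective (h.trans h0.symm)),
    fun h => (mem_UU.1 hx).2 (g.injective (h.trans h1.symm))⟩

/-- A partition of the points other than `0, 1` into two orbits of the stabiliser of `∞, 0, 1`. -/
structure Split (X : Subgroup (Perm (Option (ZMod p)))) (D : Finset (ZMod p)) : Prop where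
  sub : D ⊆ UU
  ne : D.Nonempty
  ne' : (UU \ D).Nonempty
  inv : ∀ g ∈ atInf X, g 0 = 0 → g 1 = 1 → ∀ x ∈ D, g x ∈ D
  tr : ∀ x ∈ D, ∀ y ∈ D, ∃ g ∈ atInf X, g 0 = 0 ∧ g 1 = 1 ∧ g x = y
  tr' : ∀ x ∈ UU \ D, ∀ y ∈ UU \ D, ∃ g ∈ atInf X, g 0 = 0 ∧ g 1 = 1 ∧ g x = y

variable {D : Finset (ZMod p)}

theorem Split.compl (S : Split X D) : Split X (UU \ D) where
  sub := sdiff_subset
  ne := S.ne'
  ne' := by rw [sdiff_sdiff_right_self, inf_eq_inter, inter_eq_right.2 S.sub]; exact S.ne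
  inv := by
    intro g hg g0 g1 x hx
    rw [mem_sdiff] at hx ⊢
    refine ⟨fix_UU g0 g1 hx.1, fun h => hx.2 ?_⟩
    have := S.inv _ (inv_mem hg) (by rw [Perm.inv_eq_iff_eq, g0]) (by rw [Perm.inv_eq_iff_eq, g1]) _ h
    rwa [Perm.inv_def, Equiv.symm_apply_apply] at this
  tr := S.tr'
  tr' := by
    intro x hx y hy
    rw [sdiff_sdiff_right_self, inf_eq_inter, inter_eq_right.2 S.sub] at hx hy
    exact S.tr x hx y hy

theorem Split.card_ne (S : Split X D) (L : LineGrp X) : D.card ≠ (UU \ D).card := by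
  have h := card_sdiff_add_card_eq_card S.sub
  rw [card_UU] at h
  have := L.odd
  have := L.hp
  omega

/-- The three base points. -/
def base : Finset (Option (ZMod p)) := {none, some 0, some 1}

theorem some_mem_base {u : ZMod p} : some u ∈ (base : Finset (Option (ZMod p))) ↔ u ∉ (UU : Finset (ZMod p)) := by
  simp only [base, mem_insert, mem_singleton, reduceCtorEq, false_or, Option.some.injEq, mem_UU]
  tauto

theorem Split.maps_into (S : Split X D) {x : Perm (Option (ZMod p))} (hx : x ∈ X)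
    (hb : ∀ o ∈ base, x o ∈ base) {d d' : ZMod p} (hd : d ∈ D) (he : x (some d) = some d') (hd' : d' ∉ D) :
    ∀ e ∈ D, ∃ e' ∈ UU \ D, x (some e) = some e' := by
  intro e he'
  obtain ⟨k, hk, k0, k1, kd⟩ := S.tr d hd e he'
  have hxb : base.image x = base := by
    refine eq_of_subset_of_card_le (fun o ho => ?_) (card_image_of_injective _ x.injective).ge
    obtain ⟨o', ho', rfl⟩ := mem_image.1 ho
    exact hb o' ho'
  have hfix : ∀ o ∈ base, (x * k.optionCongr * x⁻¹) o = o := by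
    intro o ho
    obtain ⟨o', ho', rfl⟩ := mem_image.1 (show o ∈ base.image x by rw [hxb]; exact ho)
    simp only [base, mem_insert, mem_singleton] at ho'
    rcases ho' with rfl | rfl | rfl <;> simp [k0, k1]
  obtain ⟨k', hk', hk'v⟩ := exists_atInf (mul_mem (mul_mem hx hk) (inv_mem hx)) (hfix none (by simp [base]))
  have k'0 : k' 0 = 0 := Option.some.inj ((hk'v 0).symm.trans (hfix _ (by simp [base])))
  have k'1 : k' 1 = 1 := Option.some.inj ((hk'v 1).symm.trans (hfix _ (by simp [base])))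
  have hd'U : d' ∈ UU := by
    by_contra h
    obtain ⟨o', ho', hoe⟩ := mem_image.1 (show some d' ∈ base.image x by rw [hxb]; exact some_mem_base.2 h)
    exact some_mem_base.1 (x.injective (hoe.trans he.symm) ▸ ho') (S.sub hd)
  refine ⟨k' d', S.compl.inv k' hk' k'0 k'1 d' (mem_sdiff.2 ⟨hd'U, hd'⟩), ?_⟩
  rw [← hk'v d', ← he]
  simp [kd]

/-- An element permuting the base points fixes both orbits. -/
theorem Split.perm_base (S : Split X D) (L : LineGrp X) {x : Perm (Option (ZMod p))} (hx : x ∈ X)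
    (hb : ∀ o ∈ base, x o ∈ base) {d d' : ZMod p} (hd : d ∈ D) (he : x (some d) = some d') : d' ∈ D := by
  by_contra hd'
  have hxb : base.image x = base := by
    refine eq_of_subset_of_card_le (fun o ho => ?_) (card_image_of_injective _ x.injective).ge
    obtain ⟨o', ho', rfl⟩ := mem_image.1 ho
    exact hb o' ho'
  have hb' : ∀ o ∈ base, x⁻¹ o ∈ base := by
    intro o ho
    obtain ⟨o', ho', rfl⟩ := mem_image.1 (show o ∈ base.image x by rw [hxb]; exact ho)
    simpa using ho'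
  have h1 := S.maps_into hx hb hd he hd'
  obtain ⟨e', he', hee⟩ := h1 d hd
  obtain rfl : e' = d' := Option.some.inj (hee.symm.trans he)
  have h2 := S.compl.maps_into (inv_mem hx) hb' he' (d' := d) (by rw [← he]; simp)
    (by simp [hd])
  rw [sdiff_sdiff_right_self, inf_eq_inter, inter_eq_right.2 S.sub] at h2
  choose! f hf hf' using h1
  choose! g hg hg' using h2
  refine S.card_ne L (le_antisymm ?_ ?_)
  · exact card_le_card_of_injOn f hf fun a ha b hb hab => Option.some.inj (x.injective (by rw [hf' a ha, hf' b hb, hab]))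
  · exact card_le_card_of_injOn g hg fun a ha b hb hab =>
      Option.some.inj (x⁻¹.injective (by rw [hg' a ha, hg' b hb, hab]))

/-! ### Weights constant on the orbits -/

theorem LineGrp.weight_const (L : LineGrp X) (o : ZMod p → ZMod p) (hsupp : ∀ x, x ∉ UU → o x = 0)
    (hinv : ∀ g ∈ atInf X, g 0 = 0 → g 1 = 1 → ∀ x, o (g x) = o x)
    {t : Perm (ZMod p)} (ht : t ∈ atInf X) (hns : ¬ IsSquare (t 1 - t 0))
    (hS : ∑ x, o x * (t x - t 0) = (∑ x, o x * x) * (t 1 - t 0)) :
    ∀ x ∈ UU, ∀ y ∈ UU, o x = o y := by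
  set c := ∑ x, o x * x with hc
  have hK : ∀ k ∈ atInf X, k 0 = 0 → k 1 = 1 → ∀ f : ZMod p → ZMod p, ∑ x, o x * f (k x) = ∑ x, o x * f x := by
    intro k hk k0 k1 f
    rw [← Equiv.sum_comp k (fun x => o x * f x)]
    exact sum_congr rfl fun x _ => by rw [hinv k hk k0 k1]
  have haff : ∀ g ∈ atInf X, ∀ g' ∈ atInf X, g 0 = g' 0 → g 1 = g' 1 → ∑ x, o x * g x = ∑ x, o x * g' x := by
    intro g hg g' hg' e0 e1
    have := hK (g'⁻¹ * g) (mul_mem (inv_mem hg') hg) (by simp [e0]) (by simp [e1]) (fun y => g' y)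
    simpa using this
  have key : ∀ g ∈ atInf X, ∑ x, o x * g x = (∑ x, o x) * g 0 + c * (g 1 - g 0) := by
    intro g hg
    have hne : g 1 - g 0 ≠ 0 := sub_ne_zero.2 fun h => one_ne_zero (g.injective h)
    by_cases hsq : IsSquare (g 1 - g 0)
    · rw [haff g hg _ (L.aff_atInf hsq hne (g 0)) (by simp [aff_apply hne]) (by simp [aff_apply hne])]
      simp only [aff_apply hne, mul_add, sum_add_distrib, ← sum_mul, hc, sum_mul]
      rw [add_comm]
      exact congrArg₂ _ rfl (sum_congr rfl fun x _ => by ring)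
    · have htne : t 1 - t 0 ≠ 0 := sub_ne_zero.2 fun h => one_ne_zero (t.injective h)
      set a := (g 1 - g 0) * (t 1 - t 0)⁻¹ with ha
      have ha0 : a ≠ 0 := mul_ne_zero hne (inv_ne_zero htne)
      have hasq : IsSquare a := by
        have hF2 : ringChar (ZMod p) ≠ 2 := by rw [ZMod.ringChar_zmod_n]; have := L.hp; omega
        have hi : ¬ IsSquare (t 1 - t 0)⁻¹ := by rwa [isSquare_inv]
        rw [← quadraticChar_one_iff_isSquare ha0, ha, map_mul, quadraticChar_neg_one_iff_not_isSquare.2 hsq,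
          quadraticChar_neg_one_iff_not_isSquare.2 hi]
        norm_num
      rw [haff g hg (aff a (g 0 - a * t 0) * t) (mul_mem (L.aff_atInf hasq ha0 _) ht)
        (by simp [aff_apply ha0]) (by rw [Perm.mul_apply, aff_apply ha0, ha]; field_simp; ring)]
      have : ∀ x, o x * (aff a (g 0 - a * t 0) * t) x = a * (o x * (t x - t 0)) + o x * g 0 := fun x => by
        rw [Perm.mul_apply, aff_apply ha0]; ring
      rw [sum_congr rfl fun x _ => this x, sum_add_distrib, ← mul_sum, ← sum_mul, hS, ha]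
      field_simp; ring
  have hw := L.no_ann (fun x => o x + (if x = 0 then c - ∑ y, o y else 0) + (if x = 1 then -c else 0)) ?_
  · intro x hx y hy
    have ex := hw x
    have ey := hw y
    simp only [(mem_UU.1 hx).1, (mem_UU.1 hx).2, (mem_UU.1 hy).1, (mem_UU.1 hy).2, if_false, add_zero] at ex ey
    exact ex.trans ey.symm
  · intro g hg
    simp only [add_mul, sum_add_distrib, ite_mul, zero_mul, sum_ite_eq', mem_univ, if_true, key g hg]
    ring

theorem LineGrp.exists_nonsq (L : LineGrp X) : ∃ t ∈ atInf X, t 0 = 0 ∧ ¬ IsSquare (t 1 - t 0) := by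
  obtain ⟨a, ha⟩ := FiniteField.exists_nonsquare (F := ZMod p) (by rw [ZMod.ringChar_zmod_n]; have := L.hp; omega)
  have ha0 : a ≠ 0 := fun h => ha (h ▸ IsSquare.zero)
  obtain ⟨t, ht, t0, t1⟩ := L.trans0 ha0
  exact ⟨t, ht, t0, by rwa [t0, t1, sub_zero]⟩

theorem LineGrp.split (L : LineGrp X) {d1 d2 : ZMod p} (h1 : d1 ∈ UU) (h2 : d2 ∈ UU)
    (h : ¬ ∃ g ∈ atInf X, g 0 = 0 ∧ g 1 = 1 ∧ g d1 = d2) : ∃ D, Split X D := by
  set orb : ZMod p → Finset (ZMod p) := fun d => univ.filter fun x => ∃ g ∈ atInf X, g 0 = 0 ∧ g 1 = 1 ∧ g d = x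
  have hmem : ∀ d x, x ∈ orb d ↔ ∃ g ∈ atInf X, g 0 = 0 ∧ g 1 = 1 ∧ g d = x := fun d x => by simp [orb]
  have hself : ∀ d, d ∈ orb d := fun d => (hmem d d).2 ⟨1, one_mem _, rfl, rfl, rfl⟩
  have hinv : ∀ d g, g ∈ atInf X → g 0 = 0 → g 1 = 1 → ∀ x, g x ∈ orb d ↔ x ∈ orb d := by
    intro d g hg g0 g1 x
    simp only [hmem]
    constructor
    · rintro ⟨k, hk, k0, k1, kx⟩
      exact ⟨g⁻¹ * k, mul_mem (inv_mem hg) hk, by simp [k0, Equiv.symm_apply_eq, g0],
        by simp [k1, Equiv.symm_apply_eq, g1], by simp [kx]⟩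
    · rintro ⟨k, hk, k0, k1, rfl⟩
      exact ⟨g * k, mul_mem hg hk, by simp [k0, g0], by simp [k1, g1], rfl⟩
  have hsub : ∀ d ∈ UU, orb d ⊆ UU := fun d hd x hx => by
    obtain ⟨g, -, g0, g1, rfl⟩ := (hmem d x).1 hx
    exact fix_UU g0 g1 hd
  have hsymm : ∀ d x, x ∈ orb d → d ∈ orb x := by
    intro d x hx
    obtain ⟨g, hg, g0, g1, rfl⟩ := (hmem d x).1 hx
    exact (hinv (g d) g hg g0 g1 d).1 (hself _)
  have h21 : d2 ∉ orb d1 := fun hc => h ((hmem _ _).1 hc)
  refine ⟨orb d1, hsub d1 h1, ⟨d1, hself d1⟩, ⟨d2, mem_sdiff.2 ⟨h2, h21⟩⟩,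
    fun g hg g0 g1 x hx => (hinv d1 g hg g0 g1 x).2 hx, ?_, ?_⟩
  · intro x hx y hy
    obtain ⟨a, ha, a0, a1, ax⟩ := (hmem _ _).1 hx
    obtain ⟨b, hb, b0, b1, bx⟩ := (hmem _ _).1 hy
    exact ⟨b * a⁻¹, mul_mem hb (inv_mem ha), by rw [Perm.mul_apply, Perm.inv_eq_iff_eq.2 a0.symm, b0],
      by rw [Perm.mul_apply, Perm.inv_eq_iff_eq.2 a1.symm, b1], by simp [← ax, bx]⟩
  intro x hx y hy
  rw [mem_sdiff] at hx hy
  by_contra hxy
  obtain ⟨t, ht, t0, hns⟩ := L.exists_nonsq
  have hxy' : y ∉ orb x := fun hc => hxy ((hmem _ _).1 hc)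
  set o : ZMod p → ZMod p → ZMod p := fun d z => if z ∈ orb d then 1 else 0
  have hLam : ∃ l : ZMod p → ZMod p, ∀ d, l d = ∑ z, o d z * (t z - t 0) - (∑ z, o d z * z) * (t 1 - t 0) :=
    ⟨_, fun _ => rfl⟩
  obtain ⟨l, hl⟩ := hLam
  have hos : ∀ d ∈ UU, ∀ z, z ∉ UU → o d z = 0 := fun d hd z hz => if_neg fun hc => hz (hsub d hd hc)
  have hoi : ∀ d g, g ∈ atInf X → g 0 = 0 → g 1 = 1 → ∀ z, o d (g z) = o d z := fun d g hg g0 g1 z => by
    simp only [o, hinv d g hg g0 g1 z]
  by_cases hl1 : l d1 = 0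
  · have := L.weight_const (o d1) (hos d1 h1) (hoi d1) ht hns (sub_eq_zero.1 ((hl d1).symm.trans hl1)) d1 h1 d2 h2
    simp [o, hself d1, h21] at this
  have := L.weight_const (fun z => l x * o d1 z - l d1 * o x z) ?_ ?_ ht hns ?_ x hx.1 y hy.1
  · simp [o, hself x, hxy', hx.2, hy.2, hl1] at this
  · intro z hz; simp [hos d1 h1 z hz, hos x hx.1 z hz]
  · intro g hg g0 g1 z; simp only [hoi _ g hg g0 g1 z]
  · rw [← sub_eq_zero]
    simp only [sub_mul, sum_sub_distrib, mul_assoc, ← mul_sum]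
    have e1 := hl d1
    have e2 := hl x
    linear_combination l d1 * e2 - l x * e1

/-! ### The relation on quadruples -/

/-- Quadruples in the orbit of `∞, 0, 1, D`. -/
def Rel (X : Subgroup (Perm (Option (ZMod p)))) (D : Finset (ZMod p)) (a b c e : Option (ZMod p)) : Prop :=
  ∃ x ∈ X, ∃ d ∈ D, x none = a ∧ x (some 0) = b ∧ x (some 1) = c ∧ x (some d) = e

theorem Rel.map {a b c e : Option (ZMod p)} (h : Rel X D a b c e) {g : Perm (Option (ZMod p))} (hg : g ∈ X) :
    Rel X D (g a) (g b) (g c) (g e) := by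
  obtain ⟨x, hx, d, hd, rfl, rfl, rfl, rfl⟩ := h
  exact ⟨g * x, mul_mem hg hx, d, hd, rfl, rfl, rfl, rfl⟩

theorem Split.rel_iff (S : Split X D) {x : Perm (Option (ZMod p))} (hx : x ∈ X) {d : ZMod p} :
    Rel X D (x none) (x (some 0)) (x (some 1)) (x (some d)) ↔ d ∈ D := by
  refine ⟨?_, fun hd => ⟨x, hx, d, hd, rfl, rfl, rfl, rfl⟩⟩
  rintro ⟨y, hy, e, he, en, e0, e1, ee⟩
  obtain ⟨k, hk, hkv⟩ := exists_atInf (mul_mem (inv_mem hx) hy) (by simp [en])
  have k0 : k 0 = 0 := Option.some.inj ((hkv 0).symm.trans (by simp [e0]))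
  have k1 : k 1 = 1 := Option.some.inj ((hkv 1).symm.trans (by simp [e1]))
  have ke : k e = d := Option.some.inj ((hkv e).symm.trans (by simp [ee]))
  exact ke ▸ S.inv k hk k0 k1 e he

theorem Split.rel_base (S : Split X D) {d : ZMod p} : Rel X D none (some 0) (some 1) (some d) ↔ d ∈ D :=
  S.rel_iff (one_mem X) (d := d)

theorem Split.rel_atInf (S : Split X D) {g : Perm (ZMod p)} (hg : g ∈ atInf X) {d : ZMod p} :
    Rel X D none (some (g 0)) (some (g 1)) (some (g d)) ↔ d ∈ D := by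
  have := S.rel_iff (d := d) (mem_atInf.1 hg)
  simpa using this

theorem Rel.ne {a b c e : Option (ZMod p)} (hsub : D ⊆ UU) (h : Rel X D a b c e) :
    a ≠ b ∧ a ≠ c ∧ a ≠ e ∧ b ≠ c ∧ b ≠ e ∧ c ≠ e := by
  obtain ⟨x, hx, d, hd, rfl, rfl, rfl, rfl⟩ := h
  have := mem_UU.1 (hsub hd)
  simp [x.injective.ne_iff, this.1.symm, this.2.symm, zero_ne_one]

theorem Split.perm12 (S : Split X D) (L : LineGrp X) {a b c e : Option (ZMod p)} (h : Rel X D a b c e) :
    Rel X D b a c e := by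
  obtain ⟨x, hx, d, hd, rfl, rfl, rfl, rfl⟩ := h
  obtain ⟨s, hs, sn, s0, s1⟩ := L.three (a := some (0 : ZMod p)) (b := none) (c := some 1) (by simp)
    (by simp) (by simp)
  have hd' : s⁻¹ (some d) ≠ none := fun h => by
    have : some d = s none := by rw [← h]; simp
    rw [sn] at this
    exact (mem_UU.1 (S.sub hd)).1 (Option.some.inj this)
  obtain ⟨d', hd'⟩ := Option.ne_none_iff_exists'.1 hd'
  have hb : ∀ o ∈ base, s⁻¹ o ∈ base := by
    intro o ho
    simp only [base, mem_insert, mem_singleton] at ho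
    rcases ho with rfl | rfl | rfl
    · rw [Perm.inv_eq_iff_eq.2 s0.symm]; simp [base]
    · rw [Perm.inv_eq_iff_eq.2 sn.symm]; simp [base]
    · rw [Perm.inv_eq_iff_eq.2 s1.symm]; simp [base]
  exact ⟨x * s, mul_mem hx hs, d', S.perm_base L (inv_mem hs) hb hd hd', by simp [sn], by simp [s0],
    by simp [s1], by simp [← hd']⟩

theorem Split.perm23 (S : Split X D) (L : LineGrp X) {a b c e : Option (ZMod p)} (h : Rel X D a b c e) :
    Rel X D a c b e := by
  obtain ⟨x, hx, d, hd, rfl, rfl, rfl, rfl⟩ := h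
  obtain ⟨s, hs, sn, s0, s1⟩ := L.three (a := none) (b := some (1 : ZMod p)) (c := some 0) (by simp)
    (by simp) (by simp)
  obtain ⟨t, ht, htv⟩ := exists_atInf hs sn
  have t0 : t 0 = 1 := Option.some.inj ((htv 0).symm.trans s0)
  have t1 : t 1 = 0 := Option.some.inj ((htv 1).symm.trans s1)
  have hd' : s⁻¹ (some d) = some (t⁻¹ d) := by rw [Perm.inv_eq_iff_eq, htv]; simp
  have hb : ∀ o ∈ base, s⁻¹ o ∈ base := by
    intro o ho
    simp only [base, mem_insert, mem_singleton] at ho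
    rcases ho with rfl | rfl | rfl
    · rw [Perm.inv_eq_iff_eq.2 sn.symm]; simp [base]
    · rw [Perm.inv_eq_iff_eq.2 s1.symm]; simp [base]
    · rw [Perm.inv_eq_iff_eq.2 s0.symm]; simp [base]
  exact ⟨x * s, mul_mem hx hs, _, S.perm_base L (inv_mem hs) hb hd hd', by simp [sn], by simp [s0],
    by simp [s1], by simp [htv]⟩

/-- Adjacency of two points over `∞, 0`. -/
def Adj (X : Subgroup (Perm (Option (ZMod p)))) (D : Finset (ZMod p)) (u v : ZMod p) : Prop :=
  Rel X D none (some 0) (some u) (some v)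

theorem Split.adj_iff (S : Split X D) {g : Perm (ZMod p)} (hg : g ∈ atInf X) (g0 : g 0 = 0) {d : ZMod p} :
    Adj X D (g 1) (g d) ↔ d ∈ D := by
  have := S.rel_atInf hg (d := d)
  rwa [g0] at this

theorem Adj.map {u v : ZMod p} (h : Adj X D u v) {g : Perm (ZMod p)} (hg : g ∈ atInf X) (g0 : g 0 = 0) :
    Adj X D (g u) (g v) := by
  have := Rel.map h (mem_atInf.1 hg)
  simpa [Adj, g0] using this

theorem Split.adj_ne (S : Split X D) {u v : ZMod p} (h : Adj X D u v) : u ≠ 0 ∧ v ≠ 0 ∧ u ≠ v := by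
  obtain ⟨-, -, -, h1, h2, h3⟩ := Rel.ne S.sub h
  simp only [ne_eq, Option.some.injEq] at h1 h2 h3
  exact ⟨fun e => h1 e.symm, fun e => h2 e.symm, h3⟩

theorem Split.adj_compl (S : Split X D) (L : LineGrp X) {u v : ZMod p} (hu : u ≠ 0) (hv : v ≠ 0) (huv : u ≠ v) :
    Adj X (UU \ D) u v ↔ ¬ Adj X D u v := by
  obtain ⟨g, hg, g0, rfl⟩ := L.trans0 hu
  obtain ⟨d, rfl⟩ : ∃ d, g d = v := ⟨g⁻¹ v, by simp⟩
  rw [S.compl.adj_iff hg g0, S.adj_iff hg g0, mem_sdiff]
  have : d ∈ UU := mem_UU.2 ⟨fun h => hv (by rw [h, g0]), fun h => huv (by rw [h])⟩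
  simp [this]

theorem Split.card_adj (S : Split X D) (L : LineGrp X) {u : ZMod p} (hu : u ≠ 0) :
    (univ.filter fun v => Adj X D u v).card = D.card := by
  obtain ⟨g, hg, g0, rfl⟩ := L.trans0 hu
  rw [← card_image_of_injective D g.injective]
  congr 1
  ext v
  obtain ⟨d, rfl⟩ : ∃ d, g d = v := ⟨g⁻¹ v, by simp⟩
  simp [S.adj_iff hg g0, g.injective.eq_iff]

theorem Split.adj_symm (S : Split X D) (L : LineGrp X) {u v : ZMod p} (h : Adj X D u v) : Adj X D v u := by
  by_contra hn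
  have move : ∀ (E : Finset (ZMod p)), Split X E → ∀ {a b a' b' : ZMod p}, Adj X E a b → Adj X E a' b' →
      ∃ g ∈ atInf X, g 0 = 0 ∧ g a = a' ∧ g b = b' := by
    intro E SE a b a' b' hab hab'
    obtain ⟨g, hg, g0, rfl⟩ := L.trans0 (SE.adj_ne hab).1
    obtain ⟨g', hg', g'0, rfl⟩ := L.trans0 (SE.adj_ne hab').1
    obtain ⟨d, rfl⟩ : ∃ d, g d = b := ⟨g⁻¹ b, by simp⟩
    obtain ⟨d', rfl⟩ : ∃ d', g' d' = b' := ⟨g'⁻¹ b', by simp⟩
    rw [SE.adj_iff hg g0] at hab
    rw [SE.adj_iff hg' g'0] at hab'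
    obtain ⟨k, hk, k0, k1, kd⟩ := SE.tr d hab d' hab'
    refine ⟨g' * k * g⁻¹, mul_mem (mul_mem hg' hk) (inv_mem hg), ?_, by simp [k1], by simp [kd]⟩
    rw [Perm.mul_apply, Perm.inv_eq_iff_eq.2 g0.symm]; simp [k0, g'0]
  -- every edge is reversed to a non-edge
  have hE : ∀ {a b}, Adj X D a b → Adj X (UU \ D) b a := by
    intro a b hab
    obtain ⟨hu, hv, huv⟩ := S.adj_ne h
    obtain ⟨g, hg, g0, ga, gb⟩ := move D S h hab
    have := Adj.map ((S.adj_compl L hv hu huv.symm).2 hn) hg g0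
    rwa [ga, gb] at this
  have hN : ∀ {a b}, Adj X (UU \ D) a b → Adj X D b a := by
    intro a b hab
    obtain ⟨ha, hb, hne⟩ := S.compl.adj_ne hab
    by_contra hc
    have hba := (S.adj_compl L hb ha hne.symm).2 hc
    have h' := hE h
    obtain ⟨g, hg, g0, ga, gb⟩ := move _ S.compl hab h'
    have := Adj.map hba hg g0
    rw [ga, gb] at this
    obtain ⟨hu, hv, huv⟩ := S.adj_ne h
    exact (S.adj_compl L hu hv huv).1 this h
  have hcount : ∀ (E : Finset (ZMod p)), Split X E →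
      (univ.filter fun z : ZMod p × ZMod p => Adj X E z.1 z.2).card = (p - 1) * E.card := by
    intro E SE
    rw [card_eq_sum_card_fiberwise (f := Prod.fst) (t := univ.erase (0 : ZMod p))
      (fun z hz => mem_coe.2 (mem_erase.2 ⟨(SE.adj_ne (mem_filter.1 (mem_coe.1 hz)).2).1, mem_univ _⟩))]
    rw [sum_congr rfl (g := fun _ => E.card), sum_const, smul_eq_mul, card_erase_of_mem (mem_univ _),
      card_univ, ZMod.card]
    intro a ha
    rw [← SE.card_adj L (ne_of_mem_erase ha)]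
    refine card_nbij' (fun z => z.2) (fun v => (a, v)) ?_ ?_ ?_ ?_
    · intro z hz
      simp only [mem_coe, mem_filter, mem_univ, true_and] at hz ⊢
      rw [← hz.2]; exact hz.1
    · intro v hv
      simp only [mem_coe, mem_filter, mem_univ, true_and] at hv ⊢
      exact ⟨hv, trivial⟩
    · intro z hz
      simp only [mem_coe, mem_filter, mem_univ, true_and] at hz
      exact Prod.ext hz.2.symm rfl
    · intro v _; rfl
  have h1 := hcount D S
  have h2 := hcount _ S.compl
  have e : (univ.filter fun z : ZMod p × ZMod p => Adj X D z.1 z.2).card =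
      (univ.filter fun z : ZMod p × ZMod p => Adj X (UU \ D) z.1 z.2).card := by
    refine card_nbij' Prod.swap Prod.swap ?_ ?_ (fun _ _ => rfl) (fun _ _ => rfl)
    · intro z hz
      simp only [mem_coe, mem_filter, mem_univ, true_and] at hz ⊢
      exact hE hz
    · intro z hz
      simp only [mem_coe, mem_filter, mem_univ, true_and] at hz ⊢
      exact hN hz
  rw [h1, h2] at e
  exact S.card_ne L (Nat.eq_of_mul_eq_mul_left (by have := L.hp; omega) e)

theorem Split.perm34 (S : Split X D) (L : LineGrp X) {a b c e : Option (ZMod p)} (h : Rel X D a b c e) :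
    Rel X D a b e c := by
  obtain ⟨x, hx, d, hd, rfl, rfl, rfl, rfl⟩ := h
  exact Rel.map (S.adj_symm L (S.rel_base.2 hd : Adj X D 1 d)) hx

end

end Cfsg.Agent.Lib.PrimeLine
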