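import Mathlib

/-!
Character sums over `ZMod m` and the transfer of vanishing sums between primitive roots.
-/

set_option autoImplicit false

namespace Cfsg.Agent.Lib.PrimeLine

open Finset Polynomial

noncomputable section

variable {m : ℕ} [NeZero m]

theorem zeta_primitive : IsPrimitiveRoot (Complex.exp (2 * Real.pi * Complex.I / m)) m :=
  Complex.isPrimitiveRoot_exp m (NeZero.ne m)

/-- The standard additive character of `ZMod m`. -/
def ec : AddChar (ZMod m) ℂ :=
  AddChar.zmodChar m (zeta_primitive (m := m)).pow_eq_one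

theorem ec_apply (a : ZMod m) : ec a = Complex.exp (2 * Real.pi * Complex.I / m) ^ a.val :=
  AddChar.zmodChar_apply _ a

theorem ec_natCast (n : ℕ) : ec (n : ZMod m) = Complex.exp (2 * Real.pi * Complex.I / m) ^ n :=
  AddChar.zmodChar_apply' _ n

theorem ec_integral (a : ZMod m) : IsIntegral ℤ (ec a) := by
  refine ⟨X ^ m - 1, monic_X_pow_sub_C (1 : ℤ) (NeZero.ne m), ?_⟩
  rw [eval₂_sub, eval₂_X_pow, eval₂_one, ec_apply, ← pow_mul, Nat.mul_comm a.val m, pow_mul,
    zeta_primitive.pow_eq_one, one_pow, sub_self]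

theorem ec_ne_one {a : ZMod m} (ha : a ≠ 0) : ec a ≠ 1 := by
  rw [ec_apply]
  intro h
  have := zeta_primitive.dvd_of_pow_eq_one a.val h
  have hlt := ZMod.val_lt a
  exact ha ((ZMod.val_eq_zero a).1 (Nat.eq_zero_of_dvd_of_lt this hlt))

theorem ec_sum (b : ZMod m) : ∑ x : ZMod m, ec (x * b) = if b = 0 then (m : ℂ) else 0 := by
  classical
  have := AddChar.sum_mulShift b (AddChar.zmodChar_primitive_of_primitive_root m (zeta_primitive (m := m)))
  rw [ZMod.card] at this
  rw [show (ec : AddChar (ZMod m) ℂ) = AddChar.zmodChar m _ from rfl]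
  rw [this]
  split_ifs <;> simp

/-- The transform of an integer weight. -/
def ft (f : ZMod m → ℤ) (i : ZMod m) : ℂ := ∑ j : ZMod m, (f j : ℂ) * ec (i * j)

theorem ft_zero (f : ZMod m → ℤ) : ft f 0 = ((∑ j : ZMod m, f j : ℤ) : ℂ) := by
  simp [ft, AddChar.map_zero_eq_one]

theorem ft_integral (f : ZMod m → ℤ) (i : ZMod m) : IsIntegral ℤ (ft f i) :=
  IsIntegral.sum _ fun j _ => (isIntegral_algebraMap (R := ℤ) (x := f j)).mul (ec_integral (i * j))

theorem ft_conv (f g : ZMod m → ℤ) (i : ZMod m) :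
    ft (fun l => ∑ j, f j * g (l - j)) i = ft f i * ft g i := by
  simp only [ft, Int.cast_sum, Int.cast_mul, sum_mul]
  simp only [mul_sum]
  rw [sum_comm]
  refine sum_congr rfl fun j _ => ?_
  rw [← Equiv.sum_comp (Equiv.addRight j) (fun l => (f j : ℂ) * (g (l - j) : ℂ) * ec (i * l))]
  refine sum_congr rfl fun l _ => ?_
  simp only [Equiv.coe_addRight, add_sub_cancel_right, mul_add, AddChar.map_add_eq_mul]
  ring

theorem ft_corr (f : ZMod m → ℤ) (i : ZMod m) :
    ft (fun l => ∑ j, f j * f (j - l)) i = ft f i * ft f (-i) := by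
  have e : ft f (-i) = ft (fun j => f (-j)) i := by
    rw [ft, ft, ← Equiv.sum_comp (Equiv.neg (ZMod m))]
    simp [mul_comm]
  rw [e, ← ft_conv]
  congr 1
  funext l
  exact sum_congr rfl fun j _ => by rw [neg_sub]

theorem ft_inv (f : ZMod m → ℤ) (j : ZMod m) :
    ∑ i : ZMod m, ft f i * ec (-(i * j)) = (m : ℂ) * f j := by
  have e : ∀ i : ZMod m, ft f i * ec (-(i * j)) = ∑ l, (f l : ℂ) * ec (i * (l - j)) := fun i => by
    rw [ft, sum_mul]
    refine sum_congr rfl fun l _ => ?_
    rw [mul_assoc, ← AddChar.map_add_eq_mul]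
    congr 2
    ring
  rw [sum_congr rfl fun i _ => e i, sum_comm, sum_eq_single j]
  · rw [← mul_sum, ec_sum, if_pos (sub_self j)]; ring
  · intro l _ hl
    rw [← mul_sum, ec_sum, if_neg (sub_ne_zero.2 hl), mul_zero]
  · simp

theorem sum_pow_poly {R : Type*} [CommRing R] (a : ZMod m → ℤ) (x : R) :
    aeval x (∑ j : ZMod m, C (a j) * X ^ j.val : ℤ[X]) = ∑ j : ZMod m, (a j : R) * x ^ j.val := by
  simp

/-- An integral relation at one primitive root holds at every primitive root, in any domain. -/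
theorem transfer {R : Type*} [CommRing R] [IsDomain R] (a : ZMod m → ℤ) {ω : R} (hω : IsPrimitiveRoot ω m)
    (h : ∑ j : ZMod m, (a j : ℂ) * ec j = 0) : ∑ j : ZMod m, (a j : R) * ω ^ j.val = 0 := by
  set ζ := Complex.exp (2 * Real.pi * Complex.I / m)
  have hz : IsPrimitiveRoot ζ m := zeta_primitive
  set P : ℤ[X] := ∑ j : ZMod m, C (a j) * X ^ j.val
  have h1 : aeval ζ P = 0 := by
    rw [sum_pow_poly]; simpa only [ec_apply] using h
  have hpos : 0 < m := Nat.pos_of_ne_zero (NeZero.ne m)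
  have h2 : cyclotomic m ℤ ∣ P := by
    rw [cyclotomic_eq_minpoly hz hpos]
    exact minpoly.isIntegrallyClosed_dvd (hz.isIntegral hpos) h1
  obtain ⟨Q, hQ⟩ := h2
  have h3 : aeval ω (cyclotomic m ℤ) = 0 := by
    rw [aeval_def, eval₂_eq_eval_map, map_cyclotomic]
    exact hω.isRoot_cyclotomic hpos
  rw [← sum_pow_poly]
  show aeval ω P = 0
  rw [hQ, map_mul, h3, zero_mul]

theorem int_of_two_mul {x : ℂ} (hx : IsIntegral ℤ x) {z : ℤ} (h : 2 * x = z) : ∃ y : ℤ, x = y := by
  have e : x = algebraMap ℚ ℂ ((z : ℚ) / 2) := by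
    rw [map_div₀, map_intCast, map_ofNat, ← h]; ring
  rw [e, isIntegral_algebraMap_iff (algebraMap ℚ ℂ).injective] at hx
  obtain ⟨y, hy⟩ := IsIntegrallyClosed.isIntegral_iff.1 hx
  exact ⟨y, by rw [e, ← hy]; simp⟩

theorem dvd_of_integral {a d : ℤ} {x : ℂ} (hx : IsIntegral ℤ x) (h : (a : ℂ) = d * x) : d ∣ a := by
  by_cases hd : d = 0
  · subst hd; simp only [Int.cast_zero, zero_mul, Int.cast_eq_zero] at h; subst h; exact dvd_rfl
  have e : x = algebraMap ℚ ℂ ((a : ℚ) / d) := by
    rw [map_div₀, map_intCast, map_intCast, h]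
    field_simp
  rw [e, isIntegral_algebraMap_iff (algebraMap ℚ ℂ).injective] at hx
  obtain ⟨y, hy⟩ := IsIntegrallyClosed.isIntegral_iff.1 hx
  refine ⟨y, ?_⟩
  have hd' : (d : ℚ) ≠ 0 := Int.cast_ne_zero.2 hd
  have : (a : ℚ) = d * y := by
    rw [eq_intCast, eq_div_iff hd'] at hy
    rw [← hy]; ring
  exact_mod_cast this

theorem sum_eq_range {M : Type*} [AddCommMonoid M] (f : ZMod m → M) :
    ∑ i : ZMod m, f i = ∑ i ∈ range m, f (i : ZMod m) := by
  refine sum_nbij' (fun i => i.val) (fun i => (i : ZMod m)) ?_ ?_ ?_ ?_ ?_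
  · intro i _; exact mem_coe.2 (mem_range.2 (ZMod.val_lt i))
  · intro i _; exact mem_coe.2 (mem_univ _)
  · intro i _; exact ZMod.natCast_zmod_val i
  · intro i hi; exact ZMod.val_cast_of_lt (mem_range.1 hi)
  · intro i _; rw [ZMod.natCast_zmod_val]

theorem sum_periodic {M : Type*} [AddCommMonoid M] (f : ℕ → M) (b : ℕ) (h : ∀ n, f (n + b) = f n) :
    ∀ a : ℕ, ∑ i ∈ range (a * b), f i = a • ∑ i ∈ range b, f i := by
  intro a
  induction a with
  | zero => simp
  | succ a ih =>
    have hsh : ∀ i, f (a * b + i) = f i := by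
      intro i
      clear ih
      induction a with
      | zero => simp
      | succ a ih' => rw [show (a + 1) * b + i = (a * b + i) + b by ring, h, ih']
    rw [Nat.add_mul, one_mul, sum_range_add, ih, succ_nsmul]
    simp only [hsh]

end

end Cfsg.Agent.Lib.PrimeLine
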