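import Cfsg.Agent.Lib.PrimeLine.Fourier

/-!
A strongly regular graph on two regular orbits of a cyclic group of odd order `m`, with the same symmetric set
`h` on both orbits, is trivial: `h` is empty or everything, or a valency is one.
-/

set_option autoImplicit false

namespace Cfsg.Agent.Lib.PrimeLine

open Finset

variable {m : ℕ} [NeZero m]

/-- The data of the graph. -/
structure Bicirc (h q : ZMod m → ℤ) (k lam mu : ℤ) : Prop where
  hodd : Odd m
  h01 : ∀ j, h j = 0 ∨ h j = 1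
  q01 : ∀ j, q j = 0 ∨ q j = 1
  h0 : h 0 = 0
  hneg : ∀ j, h (-j) = h j
  hk : k = ∑ j, h j + ∑ j, q j
  kpos : 1 ≤ k
  klt : k ≤ 2 * (m : ℤ) - 2
  lam0 : 0 ≤ lam
  lamlt : lam ≤ k - 1
  mule : mu ≤ k
  E1 : ∀ l, ∑ j, h j * h (l - j) + ∑ j, q j * q (j - l) =
    if l = 0 then k else if h l = 1 then lam else mu
  E2 : ∀ l, ∑ j, h j * q (l - j) + ∑ j, q j * h (l - j) = if q l = 1 then lam else mu

noncomputable section

variable {h q : ZMod m → ℤ} {k lam mu : ℤ}

theorem Bicirc.hat1 (H : Bicirc h q k lam mu) (i : ZMod m) :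
    ft h i ^ 2 + ft q i * ft q (-i) =
      (lam - mu : ℤ) * ft h i + (k - mu : ℤ) + (mu : ℂ) * (if i = 0 then (m : ℂ) else 0) := by
  classical
  have e : ∀ l, (if l = 0 then k else if h l = 1 then lam else mu) =
      (lam - mu) * h l + (k - mu) * (if l = 0 then 1 else 0) + mu := by
    intro l
    rcases eq_or_ne l 0 with rfl | hl
    · simp [H.h0]
    · rcases H.h01 l with hh | hh <;> simp [hl, hh]
  have key : ft (fun l => ∑ j, h j * h (l - j)) i + ft (fun l => ∑ j, q j * q (j - l)) i =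
      ∑ l, ((((lam - mu) * h l + (k - mu) * (if l = 0 then 1 else 0) + mu : ℤ)) : ℂ) * ec (i * l) := by
    rw [ft, ft, ← sum_add_distrib]
    refine sum_congr rfl fun l _ => ?_
    rw [← add_mul, ← Int.cast_add, H.E1 l, e]
  rw [ft_conv, ft_corr] at key
  have hmu : ∑ l : ZMod m, ec (i * l) = if i = 0 then (m : ℂ) else 0 := by
    rw [← ec_sum i]; exact sum_congr rfl fun l _ => by rw [mul_comm]
  rw [sq, key]
  simp only [Int.cast_add, Int.cast_mul, Int.cast_ite, Int.cast_one, Int.cast_zero, add_mul, sum_add_distrib,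
    mul_assoc, ← mul_sum, hmu, ite_mul, one_mul, zero_mul, sum_ite_eq', mem_univ, if_true, mul_zero,
    AddChar.map_zero_eq_one, mul_one]
  simp [ft]

theorem Bicirc.hat2 (H : Bicirc h q k lam mu) (i : ZMod m) :
    2 * ft h i * ft q i = (lam - mu : ℤ) * ft q i + (mu : ℂ) * (if i = 0 then (m : ℂ) else 0) := by
  classical
  have e : ∀ l, (if q l = 1 then lam else mu) = (lam - mu) * q l + mu := by
    intro l
    rcases H.q01 l with hh | hh <;> simp [hh]
  have key : ft (fun l => ∑ j, h j * q (l - j)) i + ft (fun l => ∑ j, q j * h (l - j)) i =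
      ∑ l, ((((lam - mu) * q l + mu : ℤ)) : ℂ) * ec (i * l) := by
    rw [ft, ft, ← sum_add_distrib]
    refine sum_congr rfl fun l _ => ?_
    rw [← add_mul, ← Int.cast_add, H.E2 l, e]
  rw [ft_conv, ft_conv] at key
  have hmu : ∑ l : ZMod m, ec (i * l) = if i = 0 then (m : ℂ) else 0 := by
    rw [← ec_sum i]; exact sum_congr rfl fun l _ => by rw [mul_comm]
  rw [show 2 * ft h i * ft q i = ft h i * ft q i + ft q i * ft h i by ring, key]
  simp only [Int.cast_add, Int.cast_mul, add_mul, sum_add_distrib, mul_assoc, ← mul_sum, hmu]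
  rfl

theorem ft_galois (f : ZMod m → ℤ) (u : (ZMod m)ˣ) (i : ZMod m) (z : ℤ) (hz : ft f i = z) :
    ft f (i * u) = z := by
  classical
  set ζ := Complex.exp (2 * Real.pi * Complex.I / m)
  have hp : IsPrimitiveRoot (ζ ^ (u : ZMod m).val) m :=
    zeta_primitive.pow_of_coprime _ (ZMod.val_coe_unit_coprime u)
  let a : ZMod m → ℤ := fun l => (∑ j, if i * j = l then f j else 0) - if l = 0 then z else 0
  have e : ∀ v : ZMod m, ∑ l : ZMod m, (a l : ℂ) * ec (v * l) = ft f (v * i) - z := by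
    intro v
    simp only [a, Int.cast_sub, Int.cast_sum, Int.cast_ite, Int.cast_zero, sub_mul, sum_sub_distrib, sum_mul,
      ite_mul, zero_mul, sum_ite_eq', mem_univ, if_true, mul_zero, AddChar.map_zero_eq_one, mul_one]
    rw [sum_comm]
    congr 1
    refine sum_congr rfl fun j _ => ?_
    rw [sum_ite_eq, if_pos (mem_univ _), mul_assoc]
  have h1 : ∑ l : ZMod m, (a l : ℂ) * ec l = 0 := by
    have := e 1
    simp only [one_mul] at this
    rw [this, hz, sub_self]
  have h2 := transfer a hp h1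
  have h3 : ∀ l : ZMod m, (ζ ^ (u : ZMod m).val) ^ l.val = ec ((u : ZMod m) * l) := by
    intro l
    rw [← pow_mul, ← ec_natCast, Nat.cast_mul, ZMod.natCast_zmod_val, ZMod.natCast_zmod_val]
  simp only [h3] at h2
  rw [e, sub_eq_zero, mul_comm] at h2
  exact h2

/-- An integer sum and a unit multiple. -/
theorem exists_unit_shift {q' e m' : ℕ} [NeZero (q' ^ (e + 1) * m')] (hq : q'.Prime) (hm' : ¬ q' ∣ m')
    {z : ZMod (q' ^ (e + 1) * m')} (hz : ¬ q' ^ (e + 1) ∣ z.val)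
    (hz' : ¬ q' ^ (e + 1) ∣ (z + ((q' ^ e * m' : ℕ) : ZMod (q' ^ (e + 1) * m'))).val) :
    ∃ u : (ZMod (q' ^ (e + 1) * m'))ˣ, z * u = z + ((q' ^ e * m' : ℕ) : ZMod (q' ^ (e + 1) * m')) := by
  haveI := Fact.mk hq
  have hz0 : z.val ≠ 0 := fun h0 => hz (h0 ▸ dvd_zero _)
  obtain ⟨s, z0, hz0', hzv⟩ := Nat.exists_eq_pow_mul_and_not_dvd hz0 q' hq.ne_one
  have hse : s ≤ e := by
    by_contra hlt
    exact hz (hzv ▸ Dvd.dvd.mul_right (pow_dvd_pow _ (by omega)) _)
  obtain ⟨c, hc⟩ : ∃ c : ℕ, (z0 : ZMod q') * c = 1 := by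
    refine ⟨((z0 : ZMod q')⁻¹).val, ?_⟩
    rw [ZMod.natCast_zmod_val]
    exact mul_inv_cancel₀ fun h => hz0' ((ZMod.natCast_eq_zero_iff _ _).1 h)
  obtain ⟨r, hr⟩ : ∃ r : ℤ, (z0 : ℤ) * c = 1 + q' * r := by
    have : (((z0 : ℤ) * c - 1 : ℤ) : ZMod q') = 0 := by push_cast; rw [hc]; ring
    obtain ⟨r, hr⟩ := (ZMod.intCast_zmod_eq_zero_iff_dvd _ _).1 this
    exact ⟨r, by linarith⟩
  set U := 1 + q' ^ (e - s) * m' * c
  have hzc : z = ((q' ^ s * z0 : ℕ) : ZMod (q' ^ (e + 1) * m')) := by rw [← hzv, ZMod.natCast_zmod_val]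
  have hUq : ¬ q' ∣ U := by
    intro hd
    rcases Nat.lt_or_ge s e with hs | hs
    · have : q' ∣ q' ^ (e - s) * m' * c := Dvd.dvd.mul_right (Dvd.dvd.mul_right (dvd_pow_self _ (by omega)) _) _
      exact hq.one_lt.ne' (Nat.dvd_one.1 ((Nat.dvd_add_left this).1 hd))
    · apply hz'
      obtain rfl : s = e := by omega
      have hd' : q' ∣ z0 + m' := by
        rw [← ZMod.natCast_eq_zero_iff] at hd ⊢
        simp only [U, Nat.sub_self, pow_zero, one_mul, Nat.cast_add, Nat.cast_one, Nat.cast_mul] at hd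
        push_cast
        linear_combination (z0 : ZMod q') * hd - (m' : ZMod q') * hc
      rw [hzc, ← Nat.cast_add, ← mul_add, ZMod.val_natCast]
      refine Nat.dvd_mod_iff (dvd_mul_right _ _) |>.2 ?_
      rw [pow_succ]
      exact Nat.mul_dvd_mul_left _ hd'
  have hUm : Nat.Coprime U (q' ^ (e + 1) * m') := by
    refine Nat.Coprime.mul_right (Nat.Coprime.pow_right _ ((hq.coprime_iff_not_dvd.2 hUq).symm)) ?_
    show Nat.Coprime (1 + q' ^ (e - s) * m' * c) m'
    rw [show q' ^ (e - s) * m' * c = (q' ^ (e - s) * c) * m' by ring, Nat.coprime_add_mul_right_left]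
    exact Nat.coprime_one_left m'
  refine ⟨ZMod.unitOfCoprime U hUm, ?_⟩
  rw [ZMod.coe_unitOfCoprime, hzc]
  have hpow : q' ^ s * q' ^ (e - s) = q' ^ e := by rw [← pow_add]; congr 1; omega
  have h0 : (((q' ^ (e + 1) * m' : ℕ) : ℤ) : ZMod (q' ^ (e + 1) * m')) = 0 := by rw [Int.cast_natCast]; exact ZMod.natCast_self (q' ^ (e + 1) * m')
  have key : ((q' ^ s * z0 : ℕ) : ℤ) * (U : ℕ) =
      (q' ^ s * z0 : ℕ) + (q' ^ e * m' : ℕ) + (q' ^ (e + 1) * m' : ℕ) * r := by
    simp only [U]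
    push_cast
    have hpow' : (q' : ℤ) ^ s * (q' : ℤ) ^ (e - s) = (q' : ℤ) ^ e := by exact_mod_cast hpow
    linear_combination ((q' : ℤ) ^ e * m') * hr + ((z0 : ℤ) * m' * c) * hpow'
  have := congrArg (fun x : ℤ => (x : ZMod (q' ^ (e + 1) * m'))) key
  simp only [Int.cast_add, Int.cast_mul, Int.cast_natCast] at this
  rw [this, show ((q' ^ (e + 1) * m' : ℕ) : ZMod (q' ^ (e + 1) * m')) = 0 from ZMod.natCast_self (q' ^ (e + 1) * m'), zero_mul, add_zero]

/-- Summing over the complement of the multiples of a prime. -/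
theorem card_not_dvd {q' : ℕ} (hq : 3 ≤ q') (hdvd : q' ∣ m) :
    2 * m ≤ 3 * (univ.filter fun i : ZMod m => ¬ q' ∣ i.val).card := by
  classical
  set S := univ.filter fun i : ZMod m => q' ∣ i.val
  have hsh : ∀ c : ℕ, 0 < c → c < q' → ∀ i ∈ S, i + (c : ZMod m) ∉ S := by
    intro c hc0 hc i hi hi'
    simp only [S, mem_filter, mem_univ, true_and] at hi hi'
    rw [ZMod.val_add, ZMod.val_natCast, Nat.add_mod_mod, Nat.dvd_mod_iff hdvd] at hi'
    have := Nat.le_of_dvd hc0 ((Nat.dvd_add_right hi).1 hi')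
    omega
  have d1 : Disjoint (S.image fun i => i + ((1 : ℕ) : ZMod m)) (S.image fun i => i + ((2 : ℕ) : ZMod m)) := by
    rw [disjoint_left]
    intro x hx hx'
    obtain ⟨a, ha, rfl⟩ := mem_image.1 hx
    obtain ⟨b, hb, hab⟩ := mem_image.1 hx'
    refine hsh 1 one_pos (by omega) b hb ?_
    have : a = b + ((1 : ℕ) : ZMod m) := by
      simp only [Nat.cast_one, Nat.cast_ofNat] at hab ⊢
      linear_combination -hab
    rwa [← this]
  have hsub : (S.image fun i => i + ((1 : ℕ) : ZMod m)) ∪ (S.image fun i => i + ((2 : ℕ) : ZMod m)) ⊆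
      univ.filter fun i : ZMod m => ¬ q' ∣ i.val := by
    intro x hx
    simp only [mem_filter, mem_univ, true_and]
    intro hd
    rcases mem_union.1 hx with hx | hx <;> obtain ⟨a, ha, rfl⟩ := mem_image.1 hx
    · exact hsh 1 one_pos (by omega) a ha (by simpa [S] using hd)
    · exact hsh 2 two_pos (by omega) a ha (by simpa [S] using hd)
  have h1 := card_le_card hsub
  rw [card_union_of_disjoint d1, card_image_of_injective _ (add_left_injective _),
    card_image_of_injective _ (add_left_injective _)] at h1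
  have h2 := card_filter_add_card_filter_not (s := (univ : Finset (ZMod m))) (fun i => q' ∣ i.val)
  rw [card_univ, ZMod.card] at h2
  change S.card + _ = m at h2
  omega

theorem final_ineq {n K D E N : ℤ} (hn : 4 ≤ n) (hD : 9 ≤ D ^ 2) (hE : E ^ 2 = D ^ 2)
    (hK : K ^ 2 - n * K + D ^ 2 * (n - 1) = 0) (hN : 2 * N = K - E)
    (hmix : n * D ^ 2 ≤ 3 * (n * N - 2 * N ^ 2) / 2) : False := by
  have h0 : 2 * (n * D ^ 2) ≤ 3 * (n * N - 2 * N ^ 2) := by omega
  have h1 : 4 * (n * N - 2 * N ^ 2) = 2 * (D ^ 2 * (n - 1) - E * (n - 2 * K) - E ^ 2) := by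
    have e1 : 4 * (n * N - 2 * N ^ 2) = 2 * (n * (2 * N)) - 2 * (2 * N) ^ 2 := by ring
    rw [e1, hN]
    linear_combination -2 * hK
  have h2 : D ^ 2 * (n + 6) ≤ 3 * (-E * (n - 2 * K)) := by nlinarith
  have h3 : (D ^ 2 * (n + 6)) ^ 2 ≤ (3 * (-E * (n - 2 * K))) ^ 2 :=
    pow_le_pow_left₀ (mul_nonneg (sq_nonneg D) (by omega)) h2 2
  have h4 : (3 * (-E * (n - 2 * K))) ^ 2 = 9 * D ^ 2 * (n ^ 2 - 4 * (D ^ 2 * (n - 1))) := by
    calc (3 * (-E * (n - 2 * K))) ^ 2 = 9 * E ^ 2 * (n ^ 2 + 4 * (K ^ 2 - n * K)) := by ring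
      _ = _ := by rw [hE, show K ^ 2 - n * K = -(D ^ 2 * (n - 1)) by linarith]; ring
  rw [h4] at h3
  have h5 : D ^ 2 * (D ^ 2 * (n + 6) ^ 2) ≤ D ^ 2 * (9 * (n ^ 2 - 4 * (D ^ 2 * (n - 1)))) := by nlinarith
  have h6 := le_of_mul_le_mul_left h5 (by linarith)
  nlinarith

set_option maxHeartbeats 1600000 in
/-- The classification. -/
theorem Bicirc.main (H : Bicirc h q k lam mu)
    {F : Type*} [Field F] {ω : F} (hω : IsPrimitiveRoot ω m)
    (hfield : ¬ (∑ j : ZMod m, (q j : F) * ω ^ j.val = 0 ∧ ∑ j : ZMod m, (q (-j) : F) * ω ^ j.val = 0)) :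
    (∀ j, h j = 0) ∨ (∀ j, j ≠ 0 → h j = 1) ∨ k = 1 ∨ k = 2 * (m : ℤ) - 2 := by
  classical
  have hm0 : 0 < m := Nat.pos_of_ne_zero (NeZero.ne m)
  have hodd : m % 2 = 1 := Nat.odd_iff.1 H.hodd
  obtain ⟨a', ha'⟩ : ∃ a', a' = ∑ j, h j := ⟨_, rfl⟩
  obtain ⟨N, hN⟩ : ∃ N, N = ∑ j, q j := ⟨_, rfl⟩
  have hk : k = a' + N := by rw [ha', hN]; exact H.hk
  obtain ⟨τ, hτ⟩ : ∃ τ, τ = lam - mu := ⟨_, rfl⟩
  obtain ⟨V, hV⟩ : ∃ V, V = k - mu := ⟨_, rfl⟩
  -- the trivial character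
  have hh0 : (a' : ℂ) = ft h 0 := by rw [ft_zero, ha']
  have hq0 : (N : ℂ) = ft q 0 := by rw [ft_zero, hN]
  have e10 : a' ^ 2 + N ^ 2 = τ * a' + V + mu * m := by
    have := H.hat1 0
    rw [if_pos rfl, neg_zero, ← hh0, ← hq0, ← hτ, ← hV] at this
    exact_mod_cast (by push_cast; linear_combination this : ((a' ^ 2 + N ^ 2 : ℤ) : ℂ) = ((τ * a' + V + mu * m : ℤ) : ℂ))
  have e20 : 2 * a' * N = τ * N + mu * m := by
    have := H.hat2 0
    rw [if_pos rfl, ← hh0, ← hq0, ← hτ] at this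
    exact_mod_cast (by push_cast; linear_combination this : ((2 * a' * N : ℤ) : ℂ) = ((τ * N + mu * m : ℤ) : ℂ))
  -- a non-vanishing faithful character
  have hmir : ∀ i, ft h (-i) = ft h i := by
    intro i
    rw [ft, ft, ← Equiv.sum_comp (Equiv.neg (ZMod m))]
    refine sum_congr rfl fun j _ => ?_
    simp only [Equiv.neg_apply, H.hneg]
    congr 2; ring
  have hP1 : 2 * ft h 1 = (τ : ℂ) := by
    by_contra hne
    apply hfield
    have key : ∀ i : ZMod m, i ≠ 0 → ft q i ≠ 0 → 2 * ft h i = (τ : ℂ) := by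
      intro i hi hq
      have := H.hat2 i
      rw [if_neg hi, mul_zero, add_zero, ← hτ] at this
      exact mul_right_cancel₀ hq this
    rcases Nat.lt_or_ge 1 m with hm1 | hm1
    swap
    · exfalso
      have := H.kpos
      have := H.klt
      omega
    haveI : Fact (1 < m) := ⟨hm1⟩
    constructor
    · refine transfer q hω ?_
      by_contra hq
      exact hne (key 1 one_ne_zero (by simpa [ft] using hq))
    · refine transfer (fun j => q (-j)) hω ?_
      by_contra hq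
      refine hne ?_
      rw [← hmir 1]
      refine key (-1) (neg_ne_zero.2 one_ne_zero) ?_
      rw [ft, ← Equiv.sum_comp (Equiv.neg (ZMod m))]
      simpa using hq
  obtain ⟨t, ht⟩ := int_of_two_mul (ft_integral h 1) hP1
  have htau : τ = 2 * t := by
    rw [ht] at hP1
    exact_mod_cast hP1.symm
  obtain ⟨D, hD⟩ : ∃ D, D = a' - N - t := ⟨_, rfl⟩
  have hDV : V + t ^ 2 = D ^ 2 := by
    rw [hD]; subst htau; linear_combination (e20 - e10)
  -- all values
  have hdich : ∀ i, i ≠ 0 → (ft h i = (t : ℂ) ∧ ft q i * ft q (-i) = ((D ^ 2 : ℤ) : ℂ)) ∨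
      ((ft h i = ((t + D : ℤ) : ℂ) ∨ ft h i = ((t - D : ℤ) : ℂ)) ∧ ft q i * ft q (-i) = 0) := by
    intro i hi
    have h1 := H.hat1 i
    have h2 := H.hat2 i
    rw [if_neg hi, mul_zero, add_zero, ← hτ] at h2
    rw [if_neg hi, mul_zero, add_zero, ← hτ, ← hV] at h1
    have hv : (V : ℂ) = (D : ℂ) ^ 2 - (t : ℂ) ^ 2 := by
      have : ((V + t ^ 2 : ℤ) : ℂ) = ((D ^ 2 : ℤ) : ℂ) := by rw [hDV]
      push_cast at this
      linear_combination this
    by_cases hq : ft q i = 0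
    · right
      refine ⟨?_, by rw [hq, zero_mul]⟩
      rw [hq, zero_mul, add_zero, htau, hv] at h1
      push_cast at h1 ⊢
      have : (ft h i - (t + D)) * (ft h i - (t - D)) = 0 := by linear_combination h1
      rcases mul_eq_zero.1 this with h | h
      · exact Or.inl (sub_eq_zero.1 h)
      · exact Or.inr (sub_eq_zero.1 h)
    · left
      have h3 : 2 * ft h i = (τ : ℂ) := mul_right_cancel₀ hq h2
      rw [htau] at h3 h1
      push_cast at h3 h1
      have h4 : ft h i = (t : ℂ) := by linear_combination h3 / 2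
      refine ⟨h4, ?_⟩
      rw [h4, hv] at h1
      push_cast
      linear_combination h1
  have hint : ∀ i, ∃ z : ℤ, ft h i = z := by
    intro i
    by_cases hi : i = 0
    · exact ⟨a', by rw [hi, hh0]⟩
    rcases hdich i hi with ⟨h, -⟩ | ⟨h | h, -⟩ <;> exact ⟨_, h⟩
  choose P hP using hint
  have hP0 : P 0 = a' := by
    have := hP 0
    rw [← hh0] at this
    exact_mod_cast this.symm
  have hPv : ∀ i, i ≠ 0 → P i = t ∨ P i = t + D ∨ P i = t - D := by
    intro i hi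
    rcases hdich i hi with ⟨h, -⟩ | ⟨h | h, -⟩ <;> rw [hP] at h
    · exact Or.inl (by exact_mod_cast h)
    · exact Or.inr (Or.inl (by exact_mod_cast h))
    · exact Or.inr (Or.inr (by exact_mod_cast h))
  have hgal : ∀ (u : (ZMod m)ˣ) (i : ZMod m), P (i * (u : ZMod m)) = P i := by
    intro u i
    have := ft_galois h u i _ (hP i)
    rw [hP] at this
    exact_mod_cast this
  have hclosed : ∀ (u : (ZMod m)ˣ) (j : ZMod m), h (j * (u : ZMod m)) = h j := by
    intro u j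
    have h1 := ft_inv h (j * (u : ZMod m))
    have h2 : ∑ i : ZMod m, ft h i * ec (-(i * (j * (u : ZMod m)))) = ∑ i : ZMod m, ft h i * ec (-(i * j)) := by
      conv_rhs => rw [← Equiv.sum_comp (Units.mulRight u)]
      refine sum_congr rfl fun i _ => ?_
      rw [Units.mulRight_apply, hP, hP, hgal u i]
      congr 3; ring
    rw [h2, ft_inv h j] at h1
    exact_mod_cast (mul_left_cancel₀ (by exact_mod_cast hm0.ne') h1).symm
  have hkK : k * k = 2 * t * k + V + 2 * m * mu := by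
    rw [hk]; subst htau; linear_combination e10 + e20
  have hmu : mu = k - V := by omega
  have hD0 : D ≠ 0 := by
    intro h0
    have hlam := H.lamlt
    have hVnn : 0 ≤ V := by have := H.mule; omega
    rw [h0] at hDV
    have : t ^ 2 ≤ 0 := by linarith
    have ht0 : t = 0 := by nlinarith
    subst ht0
    omega
  have htr : a' + ∑ i ∈ univ.erase (0 : ZMod m), P i = 0 := by
    have h1 := ft_inv h 0
    simp only [mul_zero, neg_zero, AddChar.map_zero_eq_one, mul_one, H.h0, Int.cast_zero] at h1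
    rw [← hP0, add_comm, sum_erase_add _ _ (mem_univ _)]
    have : ((∑ i : ZMod m, P i : ℤ) : ℂ) = 0 := by
      rw [Int.cast_sum, ← h1]; exact sum_congr rfl fun i _ => (hP i).symm
    exact_mod_cast this
  have hcard : ((univ.erase (0 : ZMod m)).card : ℤ) = (m : ℤ) - 1 := by
    rw [card_erase_of_mem (mem_univ _), card_univ, ZMod.card]; omega
  by_cases hne : (∀ j, h j = 0) ∨ (∀ j, j ≠ 0 → h j = 1)
  · tauto
  rw [not_or] at hne
  have ha1 : 1 ≤ a' := by
    by_contra hlt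
    refine hne.1 fun j => ?_
    have hall : ∀ i ∈ (univ : Finset (ZMod m)), 0 ≤ h i := fun i _ => by rcases H.h01 i with e | e <;> omega
    have h0 := (sum_eq_zero_iff_of_nonneg hall).1
      (le_antisymm (by omega) (sum_nonneg hall)) j (mem_univ j)
    exact h0
  have ha2 : a' + 2 ≤ (m : ℤ) := by
    by_contra hlt
    refine hne.2 fun j hj => ?_
    have hall : ∀ i ∈ univ.erase (0 : ZMod m), 0 ≤ 1 - h i := fun i _ => by rcases H.h01 i with e | e <;> omega
    have h0 := (sum_eq_zero_iff_of_nonneg hall).1 (le_antisymm ?_ (sum_nonneg hall)) j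
      (mem_erase.2 ⟨hj, mem_univ j⟩)
    · omega
    · rw [sum_sub_distrib, sum_const, nsmul_one, hcard, sum_erase _ H.h0, ← ha']
      omega
  right; right
  by_cases hD1 : D.natAbs = 1
  · -- eigenvalues differing by two
    have hD2 : D ^ 2 = 1 := by rw [← Int.natAbs_sq D, hD1]; rfl
    have hub : ∑ i ∈ univ.erase (0 : ZMod m), P i ≤ ((m : ℤ) - 1) * (t + 1) := by
      rw [← hcard, ← nsmul_eq_mul]
      refine sum_le_card_nsmul _ _ _ fun i hi => ?_
      rcases hPv i (ne_of_mem_erase hi) with e | e | e <;> omega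
    have hlb : ((m : ℤ) - 1) * (t - 1) ≤ ∑ i ∈ univ.erase (0 : ZMod m), P i := by
      rw [← hcard, ← nsmul_eq_mul]
      refine card_nsmul_le_sum _ _ _ fun i hi => ?_
      rcases hPv i (ne_of_mem_erase hi) with e | e | e <;> omega
    have ht1 : t ≤ 0 := by
      by_contra hlt
      have : 0 ≤ ((m : ℤ) - 1) * (t - 1) := mul_nonneg (by omega) (by omega)
      omega
    have ht2 : -1 ≤ t := by
      by_contra hlt
      have : ((m : ℤ) - 1) * (t + 1) ≤ ((m : ℤ) - 1) * (-1) := mul_le_mul_of_nonneg_left (by omega) (by omega)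
      omega
    have := H.kpos
    have := H.klt
    rcases (show t = 0 ∨ t = -1 by omega) with rfl | rfl
    · have hV1 : V = 1 := by linarith
      have : (k - 1) * (k - (2 * (m : ℤ) - 1)) = 0 := by subst hmu; subst hV1; linear_combination hkK
      rcases mul_eq_zero.1 this with e | e <;> omega
    · have hV0 : V = 0 := by linarith
      have : k * (k - (2 * (m : ℤ) - 2)) = 0 := by subst hmu; subst hV0; linear_combination hkK
      rcases mul_eq_zero.1 this with e | e <;> omega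
  exfalso
  obtain ⟨ℓ, hℓ, hℓD⟩ := Nat.exists_prime_and_dvd hD1
  have hℓD' : (ℓ : ℤ) ∣ D := Int.natCast_dvd.2 hℓD
  have hdvd : ∀ j, j ≠ 0 → D ∣ (m : ℤ) * h j - (a' - t) := by
    intro j hj
    have h1 := ft_inv h j
    have h2 : ∑ i ∈ univ.erase (0 : ZMod m), ((P i - t : ℤ) : ℂ) * ec (-(i * j)) =
        (((m : ℤ) * h j - (a' - t) : ℤ) : ℂ) := by
      have h3 : ∑ i : ZMod m, ec (-(i * j)) = 0 := by
        have := ec_sum (-j)
        rw [if_neg (neg_ne_zero.2 hj)] at this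
        rw [← this]; exact sum_congr rfl fun i _ => by rw [mul_neg]
      rw [← sum_erase_add _ _ (mem_univ (0 : ZMod m))] at h3 h1
      simp only [zero_mul, neg_zero, AddChar.map_zero_eq_one, mul_one] at h1 h3
      rw [← hh0] at h1
      simp only [Int.cast_sub, sub_mul, sum_sub_distrib, ← mul_sum, ← hP]
      push_cast
      linear_combination h1 - (t : ℂ) * h3
    have h4 : ∀ i ∈ univ.erase (0 : ZMod m), ∃ c : ℤ, P i - t = D * c := by
      intro i hi
      rcases hPv i (ne_of_mem_erase hi) with e | e | e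
      · exact ⟨0, by omega⟩
      · exact ⟨1, by omega⟩
      · exact ⟨-1, by omega⟩
    choose! c hc using h4
    refine dvd_of_integral (x := ∑ i ∈ univ.erase (0 : ZMod m), (c i : ℂ) * ec (-(i * j))) ?_ ?_
    · exact IsIntegral.sum _ fun i _ => (isIntegral_algebraMap (R := ℤ) (x := c i)).mul (ec_integral _)
    · rw [← h2, mul_sum]
      refine sum_congr rfl fun i hi => ?_
      rw [hc i hi]; push_cast; ring
  by_cases hℓm : ℓ ∣ m
  swap
  · -- `h` is constant away from zero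
    obtain ⟨j1, hj1⟩ := not_forall.1 hne.1
    have hj10 : j1 ≠ 0 := fun e => hj1 (e ▸ H.h0)
    obtain ⟨j2, hj2⟩ := not_forall.1 hne.2
    rw [_root_.not_imp] at hj2
    have e1 : h j1 = 1 := (H.h01 j1).resolve_left hj1
    have e2 : h j2 = 0 := (H.h01 j2).resolve_right hj2.2
    have hd := dvd_sub (hℓD'.trans (hdvd j1 hj10)) (hℓD'.trans (hdvd j2 hj2.1))
    rw [e1, e2] at hd
    refine hℓm (Int.natCast_dvd_natCast.1 ?_)
    rw [show (m : ℤ) = (m : ℤ) * 1 - (a' - t) - ((m : ℤ) * 0 - (a' - t)) by ring]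
    exact hd
  have hℓ3 : 3 ≤ ℓ := by
    rcases hℓ.eq_two_or_odd with rfl | h2
    · omega
    · have := hℓ.two_le; omega
  haveI := Fact.mk hℓ
  obtain ⟨e1, m', hm', hmeq⟩ := Nat.exists_eq_pow_mul_and_not_dvd hm0.ne' ℓ hℓ.ne_one
  obtain ⟨e, rfl⟩ : ∃ e, e1 = e + 1 := by
    rcases e1 with _ | e
    · exfalso; rw [hmeq, pow_zero, one_mul] at hℓm; exact hm' hℓm
    · exact ⟨e, rfl⟩
  subst hmeq
  set η : ZMod (ℓ ^ (e + 1) * m') := ((ℓ ^ e * m' : ℕ) : ZMod (ℓ ^ (e + 1) * m')) with hη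
  set G := univ.filter fun j : ZMod (ℓ ^ (e + 1) * m') => ℓ ^ (e + 1) ∣ j.val with hG
  have hmemG : ∀ j, j ∈ G ↔ ℓ ^ (e + 1) ∣ j.val := fun j => by simp [hG]
  have hηne : ∀ c : ℕ, ¬ ℓ ∣ c → ∀ y ∈ G, y + (c : ZMod (ℓ ^ (e + 1) * m')) * η ∉ G := by
    intro c hc y hy hy'
    rw [hmemG] at hy hy'
    rw [hη, ← Nat.cast_mul, ZMod.val_add, ZMod.val_natCast, Nat.add_mod_mod,
      Nat.dvd_mod_iff (dvd_mul_right _ _)] at hy'
    have := (Nat.dvd_add_right hy).1 hy'
    rw [show c * (ℓ ^ e * m') = ℓ ^ e * (c * m') by ring, pow_succ] at this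
    exact (hℓ.dvd_mul.1 (Nat.dvd_of_mul_dvd_mul_left (pow_pos hℓ.pos e) this)).elim hc hm'
  have hstep : ∀ j, j ∉ G → j + η ∉ G → h (j + η) = h j := by
    intro j hj hj'
    obtain ⟨u, hu⟩ := exists_unit_shift hℓ hm' (z := j) (fun h => hj ((hmemG _).2 h))
      (fun h => hj' ((hmemG _).2 h))
    rw [hη, ← hu, hclosed]
  have hη_mul : (ℓ : ZMod (ℓ ^ (e + 1) * m')) * η = 0 := by
    rw [hη, ← Nat.cast_mul, show ℓ * (ℓ ^ e * m') = ℓ ^ (e + 1) * m' by ring]
    exact ZMod.natCast_self _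
  have hback : ∀ y ∈ G, h (y - η) = h (y + η) := by
    intro y hy
    have hiter : ∀ c, c + 1 < ℓ → h (y + ((c + 1 : ℕ) : ZMod (ℓ ^ (e + 1) * m')) * η) = h (y + η) := by
      intro c
      induction c with
      | zero => intro _; simp
      | succ c ih =>
        intro hc
        rw [← ih (by omega), show y + ((c + 1 + 1 : ℕ) : ZMod (ℓ ^ (e + 1) * m')) * η =
          y + ((c + 1 : ℕ) : ZMod (ℓ ^ (e + 1) * m')) * η + η by push_cast; ring]
        refine hstep _ (hηne _ ?_ y hy) ?_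
        · exact fun hd => by have := Nat.le_of_dvd (by omega) hd; omega
        · rw [show y + ((c + 1 : ℕ) : ZMod (ℓ ^ (e + 1) * m')) * η + η =
            y + ((c + 1 + 1 : ℕ) : ZMod (ℓ ^ (e + 1) * m')) * η by push_cast; ring]
          exact hηne _ (fun hd => by have := Nat.le_of_dvd (by omega) hd; omega) y hy
    have := hiter (ℓ - 2) (by omega)
    rw [← this]
    congr 1
    rw [show ℓ - 2 + 1 = ℓ - 1 by omega, Nat.cast_sub (by omega), sub_mul, hη_mul]
    push_cast; ring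
  -- characters nontrivial on the subgroup of order `ℓ`
  let dl : ZMod (ℓ ^ (e + 1) * m') → ℤ := fun y => h y - h (y + η)
  let T : ZMod (ℓ ^ (e + 1) * m') → ℂ := fun i => ∑ y ∈ G, (dl y : ℂ) * ec (i * y)
  have hTP : ∀ i : ZMod (ℓ ^ (e + 1) * m'), ¬ ℓ ∣ i.val → ft h i = T i := by
    intro i hi
    have hne1 : (1 - ec (-(i * η))) ≠ 0 := by
      rw [sub_ne_zero]
      refine (ec_ne_one ?_).symm
      rw [neg_ne_zero, show i * η = ((i.val * (ℓ ^ e * m') : ℕ) : ZMod (ℓ ^ (e + 1) * m')) by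
        rw [Nat.cast_mul, ZMod.natCast_zmod_val, hη], Ne, ZMod.natCast_eq_zero_iff]
      intro hd0
      have hd : ℓ ^ e * m' * ℓ ∣ ℓ ^ e * m' * i.val := by
        convert hd0 using 1 <;> ring
      exact hi (Nat.dvd_of_mul_dvd_mul_left (Nat.pos_of_ne_zero fun h0 => by
        rcases Nat.mul_eq_zero.1 h0 with h | h
        · exact absurd h (pow_ne_zero _ hℓ.ne_zero)
        · exact hm' (h ▸ dvd_zero ℓ)) hd)
    refine mul_right_cancel₀ hne1 ?_
    have h1 : ft h i * (1 - ec (-(i * η))) = ∑ j, (dl j : ℂ) * ec (i * j) := by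
      have e1 : ft h i * ec (-(i * η)) = ∑ j, (h (j + η) : ℂ) * ec (i * j) := by
        rw [ft, ← Equiv.sum_comp (Equiv.addRight η) (fun j => (h j : ℂ) * ec (i * j)), sum_mul]
        refine sum_congr rfl fun j _ => ?_
        rw [Equiv.coe_addRight, mul_assoc, ← AddChar.map_add_eq_mul]
        congr 2; ring
      rw [mul_sub, mul_one, e1, ft, ← sum_sub_distrib]
      exact sum_congr rfl fun j _ => by simp only [dl]; push_cast; ring
    have hdis : Disjoint G (G.image fun y => y - η) := by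
      rw [disjoint_right]
      intro x hx hxG
      obtain ⟨y, hy, rfl⟩ := mem_image.1 hx
      refine hηne 1 (fun hd => by have := Nat.le_of_dvd one_pos hd; omega) _ hxG ?_
      rwa [Nat.cast_one, one_mul, sub_add_cancel]
    have h2 : ∑ j, (dl j : ℂ) * ec (i * j) =
        ∑ j ∈ G ∪ G.image (fun y => y - η), (dl j : ℂ) * ec (i * j) := by
      refine (sum_subset (subset_univ _) fun j _ hj => ?_).symm
      rw [mem_union, not_or] at hj
      have : j + η ∉ G := fun h => hj.2 (mem_image.2 ⟨j + η, h, add_sub_cancel_right j η⟩)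
      simp only [dl, hstep j hj.1 this, sub_self, Int.cast_zero, zero_mul]
    rw [h1, h2, sum_union hdis, sum_image fun a _ b _ hab => sub_left_injective hab, mul_sub, mul_one,
      sub_eq_add_neg]
    congr 1
    rw [show T i = ∑ y ∈ G, (dl y : ℂ) * ec (i * y) from rfl, sum_mul, ← sum_neg_distrib]
    refine sum_congr rfl fun y hy => ?_
    simp only [dl]
    rw [sub_add_cancel, hback y hy, mul_assoc, ← AddChar.map_add_eq_mul,
      show i * y + -(i * η) = i * (y - η) by ring]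
    push_cast; ring
  have hGm : ∀ y ∈ G, (m' : ZMod (ℓ ^ (e + 1) * m')) * y = 0 := by
    intro y hy
    obtain ⟨c, hc⟩ := (hmemG y).1 hy
    rw [← ZMod.natCast_zmod_val y, hc, ← Nat.cast_mul, ZMod.natCast_eq_zero_iff]
    exact ⟨c, by ring⟩
  have hTper : ∀ i, T (i + (m' : ZMod (ℓ ^ (e + 1) * m'))) = T i := by
    intro i
    refine sum_congr rfl fun y hy => ?_
    rw [add_mul, hGm y hy, add_zero]
  have hTval : ∀ i, ∃ c : ℤ, T i = ((t + D * c : ℤ) : ℂ) := by
    intro i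
    obtain ⟨i', hi', hi''⟩ : ∃ i', ¬ ℓ ∣ (i' : ZMod (ℓ ^ (e + 1) * m')).val ∧ T i = T i' := by
      by_cases hi : ℓ ∣ i.val
      · refine ⟨i + (m' : ZMod (ℓ ^ (e + 1) * m')), ?_, (hTper i).symm⟩
        rw [ZMod.val_add, ZMod.val_natCast, Nat.add_mod_mod,
          Nat.dvd_mod_iff (dvd_mul_of_dvd_left (dvd_pow_self _ (by omega)) _)]
        exact fun hd => hm' ((Nat.dvd_add_right hi).1 hd)
      · exact ⟨i, hi, rfl⟩
    rw [hi'', ← hTP i' hi', hP]
    rcases hPv i' (fun h0 => hi' (by rw [h0, ZMod.val_zero]; exact dvd_zero _)) with e | e | e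
    · exact ⟨0, by rw [e]; simp⟩
    · exact ⟨1, by rw [e]; push_cast; ring⟩
    · exact ⟨-1, by rw [e]; push_cast; ring⟩
  choose c hc using hTval
  have hG0 : (0 : ZMod (ℓ ^ (e + 1) * m')) ∈ G := (hmemG _).2 (by simp)
  have hdlz : ∀ z ∈ G, D ∣ (m' : ℤ) * (dl z - if z = 0 then t else 0) := by
    intro z hz
    set g : ZMod (ℓ ^ (e + 1) * m') → ℤ := fun y => (if y ∈ G then dl y else 0) - (if y = 0 then t else 0)
    have hg : ∀ i, ft g i = ((D * c i : ℤ) : ℂ) := by
      intro i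
      have : ft g i = T i - (t : ℂ) := by
        simp only [ft, g, Int.cast_sub, Int.cast_ite, Int.cast_zero, sub_mul, sum_sub_distrib, ite_mul,
          zero_mul, sum_ite_mem, univ_inter, sum_ite_eq', mem_univ, if_true, mul_zero,
          AddChar.map_zero_eq_one, mul_one]
        rfl
      rw [this, hc]; push_cast; ring
    have h1 := ft_inv g z
    simp only [hg] at h1
    rw [sum_eq_range] at h1
    have hper : ∀ n : ℕ, (fun n : ℕ => ((D * c (n : ZMod (ℓ ^ (e + 1) * m')) : ℤ) : ℂ) *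
        ec (-((n : ZMod (ℓ ^ (e + 1) * m')) * z))) (n + m') =
        (fun n : ℕ => ((D * c (n : ZMod (ℓ ^ (e + 1) * m')) : ℤ) : ℂ) *
        ec (-((n : ZMod (ℓ ^ (e + 1) * m')) * z))) n := by
      intro n
      simp only
      congr 1
      · rw [← hg, ← hg]
        have hT : ∀ i, ft g i = T i - (t : ℂ) := fun i => by rw [hg, hc]; push_cast; ring
        rw [hT, hT, Nat.cast_add, hTper]
      · rw [Nat.cast_add, add_mul, hGm z hz, add_zero]
    rw [sum_periodic _ m' hper, nsmul_eq_mul] at h1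
    have hgz : g z = dl z - if z = 0 then t else 0 := by simp [g, hz]
    refine dvd_of_integral (x := ∑ n ∈ range m', (c (n : ZMod (ℓ ^ (e + 1) * m')) : ℂ) *
      ec (-((n : ZMod (ℓ ^ (e + 1) * m')) * z))) ?_ ?_
    · exact IsIntegral.sum _ fun i _ => (isIntegral_algebraMap (R := ℤ) (x := c _)).mul (ec_integral _)
    · rw [← hgz]
      refine mul_left_cancel₀ (b := ((m' : ℤ) * g z : ℤ).cast) (show ((ℓ ^ (e + 1) : ℕ) : ℂ) ≠ 0 from
        Nat.cast_ne_zero.2 (pow_ne_zero _ hℓ.ne_zero)) ?_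
      rw [show ((ℓ ^ (e + 1) : ℕ) : ℂ) * (((m' : ℤ) * g z : ℤ) : ℂ) =
        ((ℓ ^ (e + 1) * m' : ℕ) : ℂ) * (g z : ℂ) by push_cast; ring, ← h1, mul_sum, mul_sum, mul_sum]
      exact sum_congr rfl fun n _ => by push_cast; ring
  have hℓm' : ¬ (ℓ : ℤ) ∣ (m' : ℤ) := fun h => hm' (Int.natCast_dvd_natCast.1 h)
  have hdz : ∀ z ∈ G, z ≠ 0 → dl z = 0 := by
    intro z hz hz0
    have := (Int.Prime.dvd_mul' hℓ (hℓD'.trans (hdlz z hz))).resolve_left hℓm'
    rw [if_neg hz0, sub_zero] at this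
    refine Int.eq_zero_of_abs_lt_dvd this ?_
    rw [abs_lt]
    simp only [dl]
    rcases H.h01 z with e | e <;> rcases H.h01 (z + η) with e' | e' <;> omega
  have hT1 : ∀ i, T i = (dl 0 : ℂ) := by
    intro i
    show ∑ y ∈ G, (dl y : ℂ) * ec (i * y) = _
    rw [sum_eq_single_of_mem 0 hG0 fun y hy hy0 => by rw [hdz y hy hy0, Int.cast_zero, zero_mul]]
    simp [AddChar.map_zero_eq_one]
  have hmix : ∀ i : ZMod (ℓ ^ (e + 1) * m'), ¬ ℓ ∣ i.val → ft h i = (dl 0 : ℂ) :=
    fun i hi => (hTP i hi).trans (hT1 i)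
  have hone : ¬ ℓ ∣ (1 : ZMod (ℓ ^ (e + 1) * m')).val := by
    have hlt : 1 < ℓ ^ (e + 1) * m' := by
      have h1 : ℓ ≤ ℓ ^ (e + 1) * m' := Nat.le_of_dvd hm0 hℓm
      omega
    rw [ZMod.val_one_eq_one_mod, Nat.mod_eq_of_lt hlt, Nat.dvd_one]
    exact hℓ.ne_one
  have ht' : t = dl 0 := by
    have := hmix 1 hone
    rw [ht] at this
    exact_mod_cast this
  have ht01 : t = 0 ∨ t = -1 := by
    rw [ht']
    simp only [dl, zero_add, H.h0]
    rcases H.h01 η with e | e <;> omega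
  -- count
  have hQ : ∀ i, i ≠ 0 → ∃ z : ℤ, ft q i * ft q (-i) = z ∧ 0 ≤ z ∧ (ft h i = (t : ℂ) → z = D ^ 2) := by
    intro i hi
    rcases hdich i hi with ⟨-, e2⟩ | ⟨e1, e2⟩
    · exact ⟨D ^ 2, e2, sq_nonneg D, fun _ => rfl⟩
    · refine ⟨0, by rw [e2, Int.cast_zero], le_rfl, fun e3 => ?_⟩
      rcases e1 with e1 | e1 <;> rw [e1] at e3 <;>
        · exfalso; apply hD0
          have : ((t + D : ℤ) = t) ∨ ((t - D : ℤ) = t) := by first | exact Or.inl (by exact_mod_cast e3) | exact Or.inr (by exact_mod_cast e3)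
          omega
  choose! W hW1 hW2 hW3 using hQ
  have hpars : N ^ 2 + ∑ i ∈ univ.erase (0 : ZMod (ℓ ^ (e + 1) * m')), W i =
      ((ℓ ^ (e + 1) * m' : ℕ) : ℤ) * N := by
    have h1 := ft_inv (fun l => ∑ j, q j * q (j - l)) 0
    have hsq : (∑ j, q j * q (j - 0)) = N := by
      rw [hN]; refine sum_congr rfl fun j _ => ?_
      rcases H.q01 j with e | e <;> simp [e]
    simp only [ft_corr, mul_zero, neg_zero, AddChar.map_zero_eq_one, mul_one, hsq] at h1
    rw [← add_sum_erase _ _ (mem_univ (0 : ZMod (ℓ ^ (e + 1) * m'))), neg_zero, ← hq0] at h1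
    have h2 : ((N ^ 2 + ∑ i ∈ univ.erase (0 : ZMod (ℓ ^ (e + 1) * m')), W i : ℤ) : ℂ) =
        ((((ℓ ^ (e + 1) * m' : ℕ) : ℤ) * N : ℤ) : ℂ) := by
      have h4 : (((((ℓ ^ (e + 1) * m' : ℕ) : ℤ) * N : ℤ)) : ℂ) = ((ℓ ^ (e + 1) * m' : ℕ) : ℂ) * (N : ℂ) := by
        push_cast; ring
      rw [h4, ← h1, Int.cast_add, Int.cast_sum, Int.cast_pow, sq]
      congr 1
      exact sum_congr rfl fun i hi => (hW1 i (ne_of_mem_erase hi)).symm
    exact_mod_cast h2
  have hsum : ((univ.filter fun i : ZMod (ℓ ^ (e + 1) * m') => ¬ ℓ ∣ i.val).card : ℤ) * D ^ 2 ≤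
      ∑ i ∈ univ.erase (0 : ZMod (ℓ ^ (e + 1) * m')), W i := by
    rw [← nsmul_eq_mul]
    have hsub : (univ.filter fun i : ZMod (ℓ ^ (e + 1) * m') => ¬ ℓ ∣ i.val) ⊆ univ.erase 0 := by
      intro i hi
      simp only [mem_filter, mem_univ, true_and] at hi
      exact mem_erase.2 ⟨fun h0 => hi (by rw [h0, ZMod.val_zero]; exact dvd_zero _), mem_univ _⟩
    refine le_trans (card_nsmul_le_sum _ W _ fun i hi => ?_)
      (sum_le_sum_of_subset_of_nonneg hsub fun i hi _ => hW2 i (ne_of_mem_erase hi))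
    have hi0 := ne_of_mem_erase (hsub hi)
    simp only [mem_filter, mem_univ, true_and] at hi
    rw [hW3 i hi0 (by rw [hmix i hi, ht'])]
  have hc := card_not_dvd (m := ℓ ^ (e + 1) * m') hℓ3 hℓm
  have hD9 : 9 ≤ D ^ 2 := by
    have h1 := Nat.le_of_dvd (Int.natAbs_pos.2 hD0) hℓD
    rw [← Int.natAbs_sq D]
    have h2 : (3 : ℤ) ≤ (D.natAbs : ℤ) := by exact_mod_cast hℓ3.trans h1
    nlinarith
  obtain ⟨M, hM⟩ : ∃ M : ℤ, M = ((ℓ ^ (e + 1) * m' : ℕ) : ℤ) := ⟨_, rfl⟩
  rw [← hM] at hpars hkK ha2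
  have h23 : 2 * M * D ^ 2 ≤ 3 * (M * N - N ^ 2) := by
    have : 2 * M ≤ 3 * ((univ.filter fun i : ZMod (ℓ ^ (e + 1) * m') => ¬ ℓ ∣ i.val).card : ℤ) := by
      rw [hM]; exact_mod_cast hc
    nlinarith [sq_nonneg D]
  refine final_ineq (n := 2 * M) (K := k - t) (D := D) (E := D) (N := N) (by omega) hD9 rfl ?_
    (by rw [hk, hD]; ring) ?_
  · have htt : t * (t + 1) = 0 := by rcases ht01 with e | e <;> rw [e] <;> norm_num
    subst hmu
    linear_combination hkK + (1 - 2 * M) * hDV + (2 * M) * htt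
  · rw [Int.le_ediv_iff_mul_le (by norm_num)]
    linarith

end

end Cfsg.Agent.Lib.PrimeLine
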