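import Cfsg.Agent.Lib.PrimeLine.Base
import Cfsg.Agent.Lib.PrimeLine.Graph

/-!
A group on the projective line over `ZMod p` (`p > 7`) containing the standard maps, not affine at infinity,
has the stabiliser of three points transitive on the rest.
-/

set_option autoImplicit false

namespace Cfsg.Agent.Lib.PrimeLine

open Finset Equiv

noncomputable section

attribute [local instance] Classical.propDecidable

variable {p : ℕ} [Fact p.Prime] {X : Subgroup (Perm (Option (ZMod p)))} {D : Finset (ZMod p)}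

theorem Split.card_pos (S : Split X D) : 1 ≤ D.card := Finset.card_pos.2 S.ne

theorem Split.cast_card_ne (S : Split X D) : (D.card : ZMod p) ≠ 0 := by
  intro h
  have h1 := Nat.le_of_dvd S.card_pos ((ZMod.natCast_eq_zero_iff _ _).1 h)
  have h2 := card_le_card S.sub
  rw [card_UU] at h2
  have := (Fact.out : p.Prime).two_le
  omega

theorem Split.ind_inv (S : Split X D) {g : Perm (ZMod p)} (hg : g ∈ atInf X) (g0 : g 0 = 0) (g1 : g 1 = 1)
    (x : ZMod p) : g x ∈ D ↔ x ∈ D := by
  refine ⟨fun h => ?_, S.inv g hg g0 g1 x⟩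
  have := S.inv _ (inv_mem hg) (by rw [Perm.inv_eq_iff_eq, g0]) (by rw [Perm.inv_eq_iff_eq, g1]) _ h
  rwa [Perm.inv_def, Equiv.symm_apply_apply] at this

theorem Split.not_balanced (S : Split X D) (L : LineGrp X) {t : Perm (ZMod p)} (ht : t ∈ atInf X)
    (hns : ¬ IsSquare (t 1 - t 0))
    (h : ∑ d ∈ D, (t d - t 0) = (∑ d ∈ D, d) * (t 1 - t 0)) : False := by
  obtain ⟨a, ha⟩ := S.ne
  obtain ⟨b, hb⟩ := S.ne'
  rw [mem_sdiff] at hb
  have := L.weight_const (fun x => if x ∈ D then 1 else 0) (fun x hx => if_neg fun hc => hx (S.sub hc))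
    (fun g hg g0 g1 x => by simp only [S.ind_inv hg g0 g1]) ht hns ?_ a (S.sub ha) b hb.1
  · simp [ha, hb.2] at this
  · simp only [ite_mul, one_mul, zero_mul, sum_ite_mem, univ_inter]
    exact h

/-- An element of the stabiliser of infinity swapping `0` and `1` fixes both orbits. -/
theorem Split.swap_mem (S : Split X D) (L : LineGrp X) {t : Perm (ZMod p)} (ht : t ∈ atInf X) (t0 : t 0 = 1)
    (t1 : t 1 = 0) : D.image t = D := by
  refine eq_of_subset_of_card_le (fun x hx => ?_) (card_image_of_injective _ t.injective).ge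
  obtain ⟨d, hd, rfl⟩ := mem_image.1 hx
  refine S.perm_base L (x := t.optionCongr) ht ?_ hd (by simp)
  intro o ho
  simp only [base, mem_insert, mem_singleton] at ho
  rcases ho with rfl | rfl | rfl <;> simp [base, t0, t1]

theorem Split.neg_one_nonsq (S : Split X D) (L : LineGrp X) : ¬ IsSquare (-1 : ZMod p) := by
  intro hsq
  have h1 : (-1 : ZMod p) ≠ 0 := neg_ne_zero.2 one_ne_zero
  have hta : aff (-1 : ZMod p) 1 ∈ atInf X := L.aff_atInf hsq h1 1
  have him := S.swap_mem L hta (by simp [aff_apply h1]) (by simp [aff_apply h1])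
  have hgen : ∀ g ∈ atInf X, 2 * ∑ d ∈ D, g d = (D.card : ZMod p) * (g 0 + g 1) := by
    intro g hg
    have hh : aff (-1 : ZMod p) (g 0 + g 1) ∈ atInf X := L.aff_atInf hsq h1 _
    have hkm := mul_mem (inv_mem (mul_mem hh hg)) (mul_mem hg hta)
    have k0 : ((aff (-1 : ZMod p) (g 0 + g 1) * g)⁻¹ * (g * aff (-1 : ZMod p) 1)) 0 = 0 := by
      rw [Perm.mul_apply, Perm.inv_eq_iff_eq]
      simp [aff_apply h1]
    have k1 : ((aff (-1 : ZMod p) (g 0 + g 1) * g)⁻¹ * (g * aff (-1 : ZMod p) 1)) 1 = 1 := by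
      rw [Perm.mul_apply, Perm.inv_eq_iff_eq]
      simp [aff_apply h1]
    set k := (aff (-1 : ZMod p) (g 0 + g 1) * g)⁻¹ * (g * aff (-1 : ZMod p) 1) with hk
    have e : ∀ d, g (aff (-1 : ZMod p) 1 d) = -g (k d) + (g 0 + g 1) := by
      intro d
      have : (aff (-1 : ZMod p) (g 0 + g 1) * g) (k d) = g (aff (-1 : ZMod p) 1 d) := by simp [hk]
      rw [← this, Perm.mul_apply, aff_apply h1]
      ring
    have hkim : D.image k = D := by
      refine eq_of_subset_of_card_le (fun x hx => ?_) (card_image_of_injective _ k.injective).ge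
      obtain ⟨d, hd, rfl⟩ := mem_image.1 hx
      exact S.inv k hkm k0 k1 d hd
    have e1 : ∑ d ∈ D, g (aff (-1 : ZMod p) 1 d) = ∑ d ∈ D, g d := by
      conv_rhs => rw [← him, sum_image fun a _ b _ h => (aff (-1 : ZMod p) 1).injective h]
    have e2 : ∑ d ∈ D, g (k d) = ∑ d ∈ D, g d := by
      conv_rhs => rw [← hkim, sum_image fun a _ b _ h => k.injective h]
    rw [sum_congr rfl fun d _ => e d, sum_add_distrib, sum_neg_distrib, e2, sum_const, nsmul_eq_mul] at e1
    linear_combination -e1
  obtain ⟨t, ht, t0, hns⟩ := L.exists_nonsq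
  refine S.not_balanced L ht hns ?_
  have a := hgen t ht
  have b := hgen 1 (one_mem _)
  simp only [Perm.one_apply, zero_add, mul_one] at b
  have h2 : (2 : ZMod p) ≠ 0 := by exact_mod_cast L.natCast_ne_zero (n := 2) (by norm_num) (by norm_num)
  refine mul_left_cancel₀ h2 ?_
  rw [sum_sub_distrib, sum_const, nsmul_eq_mul]
  linear_combination a - (t 1 - t 0) * b

theorem Split.two_sum_ne (S : Split X D) (L : LineGrp X) : 2 * ∑ d ∈ D, d ≠ (D.card : ZMod p) := by
  intro h
  obtain ⟨t, ht, t0, t1⟩ := L.two (a := (1 : ZMod p)) (b := 0) one_ne_zero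
  refine S.not_balanced L ht (by rw [t0, t1, zero_sub]; exact S.neg_one_nonsq L) ?_
  rw [t0, t1, sum_sub_distrib, sum_const, nsmul_one]
  have : ∑ d ∈ D, t d = ∑ d ∈ D, d := by
    conv_rhs => rw [← S.swap_mem L ht t0 t1, sum_image fun a _ b _ h => t.injective h]
  rw [this]
  linear_combination h

theorem Split.adj_neg_one (S : Split X D) (L : LineGrp X) (v : ZMod p) : Adj X D (-1) v ↔ v + 1 ∈ D := by
  have e : Adj X D (-1) v ↔ Rel X D none (some 1) (some 0) (some (v + 1)) := by
    constructor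
    · intro h
      have := Rel.map h (mem_atInf.1 (L.trans_atInf (1 : ZMod p)))
      simpa [Adj] using this
    · intro h
      have := Rel.map h (mem_atInf.1 (L.trans_atInf (-1 : ZMod p)))
      simpa [Adj] using this
  rw [e, ← S.rel_base]
  exact ⟨S.perm23 L, S.perm23 L⟩

theorem Adj.scale (L : LineGrp X) {a u v : ZMod p} (ha : IsSquare a) (ha' : a ≠ 0) (h : Adj X D u v) :
    Adj X D (a * u) (a * v) := by
  have := Adj.map h (L.aff_atInf ha ha' 0) (by simp [aff_apply ha'])
  simpa [aff_apply ha'] using this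

theorem Adj.flip (S : Split X D) (L : LineGrp X) {u v : ZMod p} (h : Adj X D u v) :
    Adj X D (-u⁻¹) (-v⁻¹) := by
  obtain ⟨hu, hv, -⟩ := S.adj_ne h
  have := S.perm12 L (Rel.map h L.w_mem)
  simpa [Adj, wo_some hu, wo_some hv] using this

theorem Split.adj_one (S : Split X D) {v : ZMod p} : Adj X D 1 v ↔ v ∈ D := S.rel_base

/-! ### Coordinates -/

/-- The `j`-th power of a fixed root of unity. -/
def em {m : ℕ} (ω : ZMod p) (j : ZMod m) : ZMod p := ω ^ j.val

section coords

variable {m : ℕ} [NeZero m] {ω : ZMod p}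

theorem em_zero : em ω (0 : ZMod m) = 1 := by simp [em]

theorem em_add (hω : IsPrimitiveRoot ω m) (i j : ZMod m) : em ω (i + j) = em ω i * em ω j := by
  rw [em, em, em, ← pow_add, ZMod.val_add]
  conv_rhs => rw [← Nat.mod_add_div (i.val + j.val) m, pow_add, pow_mul, hω.pow_eq_one, one_pow, mul_one]

theorem em_ne (hω : IsPrimitiveRoot ω m) (j : ZMod m) : em ω j ≠ 0 :=
  pow_ne_zero _ (hω.ne_zero (NeZero.ne m))

theorem em_inv (hω : IsPrimitiveRoot ω m) (j : ZMod m) : (em ω j)⁻¹ = em ω (-j) := by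
  refine inv_eq_of_mul_eq_one_right ?_
  rw [← em_add hω, add_neg_cancel, em_zero]

theorem em_inj (hω : IsPrimitiveRoot ω m) : Function.Injective (em ω : ZMod m → ZMod p) := fun i j h =>
  ZMod.val_injective m (hω.pow_inj (ZMod.val_lt i) (ZMod.val_lt j) h)

end coords

theorem LineGrp.setup (L : LineGrp X) (hns : ¬ IsSquare (-1 : ZMod p)) : ∃ (m : ℕ) (ω : ZMod p),
    p = 2 * m + 1 ∧ Odd m ∧ IsPrimitiveRoot ω m ∧
      (∀ a : ZMod p, a ≠ 0 → (IsSquare a ↔ a ^ m = 1)) := by
  have hp4 : p % 4 = 3 := by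
    by_contra h
    exact hns (ZMod.exists_sq_eq_neg_one_iff.2 h)
  obtain ⟨g, hg⟩ := IsCyclic.exists_generator (α := (ZMod p)ˣ)
  have hgord : orderOf g = p - 1 := by
    rw [orderOf_eq_card_of_forall_mem_zpowers hg, Nat.card_eq_fintype_card, ZMod.card_units]
  refine ⟨p / 2, (g : ZMod p) ^ 2, by omega, Nat.odd_iff.2 (by omega), ?_, fun a ha => ?_⟩
  · have h1 : IsPrimitiveRoot (g : ZMod p) (p - 1) := by
      rw [← hgord, ← orderOf_units]; exact IsPrimitiveRoot.orderOf _
    exact h1.pow (by have := L.hp; omega) (by omega)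
  · exact ZMod.euler_criterion p ha

/-- The Fourier argument gives an orbit of size one. -/
theorem Split.singleton (S : Split X D) (L : LineGrp X) : ∃ E, Split X E ∧ E.card = 1 := by
  obtain ⟨m, ω, hpm, hmodd, hω, hsq⟩ := L.setup (S.neg_one_nonsq L)
  have hm1 : 1 ≤ m := by have := L.hp; omega
  haveI : NeZero m := ⟨by omega⟩
  have hem_sq : ∀ j : ZMod m, IsSquare (em ω j) := fun j => by
    rw [hsq _ (em_ne hω j), em, ← pow_mul, mul_comm, pow_mul, hω.pow_eq_one, one_pow]
  have hnegem : ∀ i j : ZMod m, em ω i ≠ -em ω j := by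
    intro i j h
    refine S.neg_one_nonsq L ?_
    have : (-1 : ZMod p) = em ω i * (em ω j)⁻¹ := by
      rw [h, neg_mul, mul_inv_cancel₀ (em_ne hω j)]
    rw [this]
    exact (hem_sq i).mul (isSquare_inv.2 (hem_sq j))
  have hcov : ∀ x : ZMod p, x ≠ 0 → (∃ i : ZMod m, x = em ω i) ∨ ∃ i : ZMod m, x = -em ω i := by
    intro x hx
    by_cases hs : IsSquare x
    · left
      obtain ⟨i, hi, e⟩ := hω.eq_pow_of_pow_eq_one ((hsq x hx).1 hs)
      exact ⟨i, by rw [em, ZMod.val_cast_of_lt hi, e]⟩
    · right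
      have hs' : IsSquare (-x) := by
        have hF2 : ringChar (ZMod p) ≠ 2 := by rw [ZMod.ringChar_zmod_n]; have := L.hp; omega
        rw [← quadraticChar_one_iff_isSquare (neg_ne_zero.2 hx), ← neg_one_mul x, map_mul,
          quadraticChar_neg_one_iff_not_isSquare.2 hs,
          quadraticChar_neg_one_iff_not_isSquare.2 (S.neg_one_nonsq L)]
        norm_num
      obtain ⟨i, hi, e⟩ := hω.eq_pow_of_pow_eq_one ((hsq _ (neg_ne_zero.2 hx)).1 hs')
      exact ⟨i, by rw [em, ZMod.val_cast_of_lt hi, e, neg_neg]⟩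
  have hsplit : ∀ f : ZMod p → ZMod p → ℤ, ∀ z, ∑ v, f z v =
      f z 0 + (∑ j : ZMod m, f z (em ω j) + ∑ j : ZMod m, f z (-em ω j)) := by
    intro f z
    have hdis : Disjoint (univ.image (em ω : ZMod m → ZMod p)) (univ.image fun j : ZMod m => -em ω j) := by
      rw [disjoint_left]
      intro x hx hx'
      obtain ⟨i, -, rfl⟩ := mem_image.1 hx
      obtain ⟨j, -, hj⟩ := mem_image.1 hx'
      exact hnegem i j hj.symm
    have hcover : univ.image (em ω : ZMod m → ZMod p) ∪ univ.image (fun j : ZMod m => -em ω j) = univ.erase 0 := by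
      refine eq_of_subset_of_card_le (fun x hx => ?_) ?_
      · rcases mem_union.1 hx with hx | hx <;> obtain ⟨i, -, rfl⟩ := mem_image.1 hx <;>
          simp [em_ne hω i]
      · rw [card_union_of_disjoint hdis, card_image_of_injective _ (em_inj hω),
          card_image_of_injective _ (fun a b h => em_inj hω (neg_injective h)), card_erase_of_mem (mem_univ _),
          card_univ, card_univ, ZMod.card, ZMod.card]
        omega
    rw [← add_sum_erase _ _ (mem_univ (0 : ZMod p)), ← hcover, sum_union hdis,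
      sum_image fun a _ b _ h => em_inj hω h, sum_image fun a _ b _ h => em_inj hω (neg_injective h)]
  -- basic data for an orbit
  have data : ∀ E, Split X E → ∃ (h q : ZMod m → ℤ) (lam mu : ℤ), Bicirc h q (E.card : ℤ) lam mu ∧
      ¬ (∑ j : ZMod m, (q j : ZMod p) * ω ^ j.val = 0 ∧ ∑ j : ZMod m, (q (-j) : ZMod p) * ω ^ j.val = 0) ∧
      (∀ j, h j = 1 ↔ em ω j ∈ E) ∧ (∀ j, q j = 1 ↔ -em ω j ∈ E) := by
    intro E SE
    let A : ZMod p → ZMod p → ℤ := fun u v => if Adj X E u v then 1 else 0
    let h : ZMod m → ℤ := fun j => A 1 (em ω j)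
    let q : ZMod m → ℤ := fun j => A 1 (-em ω j)
    have Aeq : ∀ {u v u' v'}, (Adj X E u v ↔ Adj X E u' v') → A u v = A u' v' := fun hh => by simp [A, hh]
    have Asymm : ∀ u v, A u v = A v u := fun u v => Aeq ⟨SE.adj_symm L, SE.adj_symm L⟩
    have Ascale : ∀ (i : ZMod m) u v, A (em ω i * u) (em ω i * v) = A u v := fun i u v => by
      refine Aeq ⟨fun hh => ?_, Adj.scale L (hem_sq i) (em_ne hω i)⟩
      have := Adj.scale L (hem_sq (-i)) (em_ne hω (-i)) hh
      rwa [← mul_assoc, ← mul_assoc, ← em_add hω, neg_add_cancel, em_zero, one_mul, one_mul] at this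
    have Aee : ∀ i j, A (em ω i) (em ω j) = h (j - i) := fun i j => by
      show _ = A 1 (em ω (j - i))
      rw [← Ascale i 1 (em ω (j - i)), mul_one, ← em_add hω, add_sub_cancel]
    have hneg : ∀ j, h (-j) = h j := fun j => by
      rw [show -j = 0 - j by ring, ← Aee, Asymm, em_zero]
    have Aen : ∀ i j, A (em ω i) (-em ω j) = q (j - i) := fun i j => by
      show _ = A 1 (-em ω (j - i))
      rw [← Ascale i 1 (-em ω (j - i)), mul_one, mul_neg, ← em_add hω, add_sub_cancel]
    have Ann' : ∀ i j, A (-em ω i) (-em ω j) = h (i - j) := fun i j => by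
      rw [show i - j = -j - -i by ring, ← Aee]
      refine Aeq ⟨fun hh => ?_, fun hh => ?_⟩
      · have := Adj.flip SE L hh
        simpa [em_inv hω, inv_neg] using this
      · have := Adj.flip SE L hh
        simpa [em_inv hω] using this
    have A10 : ∀ u, A u 0 = 0 := fun u => if_neg fun hh => (SE.adj_ne hh).2.1 rfl
    have hA : ∀ u v, A u v = 0 ∨ A u v = 1 := fun u v => by simp only [A]; split_ifs <;> simp
    have hA1 : ∀ v, A 1 v = 1 ↔ v ∈ E := fun v => by
      simp only [A]; rw [← SE.adj_one]; split_ifs with hh <;> simp [hh]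
    let T : ZMod p → ℤ := fun z => ∑ v, A 1 v * A z v
    have hk : ∑ v, A 1 v = (E.card : ℤ) := by
      rw [← SE.card_adj L one_ne_zero, card_filter, Nat.cast_sum]
      exact sum_congr rfl fun v _ => by simp only [A]; split_ifs <;> simp
    have Tinv : ∀ g ∈ atInf X, g 0 = 0 → g 1 = 1 → ∀ z, T (g z) = T z := by
      intro g hg g0 g1 z
      simp only [T]
      rw [← Equiv.sum_comp g (fun v => A 1 v * A (g z) v)]
      refine sum_congr rfl fun v _ => ?_
      have gi : ∀ {u w}, A (g u) (g w) = A u w := fun {u w} => Aeq ⟨fun hh => by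
        have := Adj.map hh (inv_mem hg) (by rw [Perm.inv_eq_iff_eq, g0])
        simpa using this, fun hh => Adj.map hh hg g0⟩
      conv_lhs => rw [show (1 : ZMod p) = g 1 from g1.symm]
      rw [gi, gi]
    obtain ⟨d1, hd1⟩ := SE.ne
    obtain ⟨d2, hd2⟩ := SE.ne'
    have Tin : ∀ z ∈ E, T z = T d1 := fun z hz => by
      obtain ⟨g, hg, g0, g1, rfl⟩ := SE.tr d1 hd1 z hz
      exact Tinv g hg g0 g1 d1
    have Tout : ∀ z ∈ UU \ E, T z = T d2 := fun z hz => by
      obtain ⟨g, hg, g0, g1, rfl⟩ := SE.tr' d2 hd2 z hz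
      exact Tinv g hg g0 g1 d2
    have T1 : T 1 = (E.card : ℤ) := by
      rw [← hk]; exact sum_congr rfl fun v _ => by rcases hA 1 v with e | e <;> simp [e]
    have Tem : ∀ l, T (em ω l) = ∑ j, h j * h (l - j) + ∑ j, q j * q (j - l) := by
      intro l
      simp only [T]
      rw [hsplit (fun z v => A 1 v * A z v), A10, zero_mul, zero_add]
      exact congrArg₂ _ (sum_congr rfl fun j _ => by rw [Aee, ← hneg (j - l), neg_sub])
        (sum_congr rfl fun j _ => by rw [Aen])
    have Tneg : ∀ l, T (-em ω l) = ∑ j, h j * q (l - j) + ∑ j, q j * h (l - j) := by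
      intro l
      simp only [T]
      rw [hsplit (fun z v => A 1 v * A z v), A10, zero_mul, zero_add]
      exact congrArg₂ _ (sum_congr rfl fun j _ => by rw [Asymm (-em ω l), Aen])
        (sum_congr rfl fun j _ => by rw [Ann'])
    have hcompl : ∀ {z}, z ≠ 0 → z ≠ 1 → ¬ A 1 z = 1 → z ∈ UU \ E := fun h0 h1 hh =>
      mem_sdiff.2 ⟨mem_UU.2 ⟨h0, h1⟩, fun hc => hh ((hA1 _).2 hc)⟩
    have hE2 : E.card ≤ p - 3 := by
      have e1 := card_sdiff_add_card_eq_card SE.sub
      rw [card_UU] at e1
      have := Finset.card_pos.2 SE.ne'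
      omega
    refine ⟨h, q, T d1, T d2, ?_, ?_, fun j => hA1 _, fun j => hA1 _⟩
    · refine
        { hodd := hmodd, h01 := fun j => hA _ _, q01 := fun j => hA _ _, h0 := ?_, hneg := hneg, hk := ?_,
          kpos := by exact_mod_cast SE.card_pos, klt := by omega, lam0 := ?_, lamlt := ?_, mule := ?_,
          E1 := ?_, E2 := ?_ }
      · exact if_neg fun hh => (SE.adj_ne hh).2.2 (em_zero).symm
      · rw [← hk, hsplit A, A10, zero_add]
      · exact sum_nonneg fun v _ => mul_nonneg (by rcases hA 1 v with e | e <;> omega)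
          (by rcases hA d1 v with e | e <;> omega)
      · have : ∑ v, A 1 v * A d1 v < ∑ v, A 1 v := by
          refine sum_lt_sum (fun v _ => ?_) ⟨d1, mem_univ _, ?_⟩
          · rcases hA 1 v with e | e <;> rcases hA d1 v with e' | e' <;> simp [e, e']
          · have : A d1 d1 = 0 := if_neg fun hh => (SE.adj_ne hh).2.2 rfl
            rw [this, mul_zero, (hA1 d1).2 hd1]; exact zero_lt_one
        show T d1 ≤ _
        simp only [T]
        omega
      · show T d2 ≤ _
        rw [← hk]
        exact sum_le_sum fun v _ => by rcases hA 1 v with e | e <;> rcases hA d2 v with e' | e' <;> simp [e, e']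
      · intro l
        rw [← Tem]
        split_ifs with hl hh
        · rw [hl, em_zero, T1]
        · exact Tin _ ((hA1 _).1 hh)
        · exact Tout _ (hcompl (em_ne hω l) (fun e => hl (em_inj hω (e.trans em_zero.symm))) hh)
      · intro l
        rw [← Tneg]
        split_ifs with hh
        · exact Tin _ ((hA1 _).1 hh)
        · exact Tout _ (hcompl (neg_ne_zero.2 (em_ne hω l))
            (fun e => hnegem 0 l (by rw [em_zero]; exact e.symm)) hh)
    · rintro ⟨h1, h2⟩
      have hσ : ∀ u : ZMod p, ∑ v, (A u v : ZMod p) * v =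
          ∑ j : ZMod m, (A u (em ω j) : ZMod p) * em ω j +
            ∑ j : ZMod m, (A u (-em ω j) : ZMod p) * (-em ω j) := by
        intro u
        have hcast : ∀ f : ZMod p → ZMod p, (∀ v, f v = f v) → f 0 = 0 → ∑ v, f v =
            ∑ j : ZMod m, f (em ω j) + ∑ j : ZMod m, f (-em ω j) := by
          intro f _ f0
          have hdis : Disjoint (univ.image (em ω : ZMod m → ZMod p)) (univ.image fun j : ZMod m => -em ω j) := by
            rw [disjoint_left]
            intro x hx hx'
            obtain ⟨i, -, rfl⟩ := mem_image.1 hx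
            obtain ⟨j, -, hj⟩ := mem_image.1 hx'
            exact hnegem i j hj.symm
          rw [← sum_erase (univ) f0, ← sum_image fun a _ b _ h => em_inj hω h,
            ← sum_image (f := f) (fun a _ b _ h => em_inj hω (neg_injective h)), ← sum_union hdis]
          refine (sum_congr ?_ fun _ _ => rfl).symm
          refine eq_of_subset_of_card_le (fun x hx => ?_) ?_
          · rcases mem_union.1 hx with hx | hx <;> obtain ⟨i, -, rfl⟩ := mem_image.1 hx <;>
              simp [em_ne hω i]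
          · rw [card_union_of_disjoint hdis, card_image_of_injective _ (em_inj hω),
              card_image_of_injective _ (fun a b h => em_inj hω (neg_injective h)),
              card_erase_of_mem (mem_univ _), card_univ, card_univ, ZMod.card, ZMod.card]
            omega
        exact hcast (fun v => (A u v : ZMod p) * v) (fun _ => rfl) (mul_zero _)
      apply SE.two_sum_ne L
      have eE : ∑ v, (A 1 v : ZMod p) * v = ∑ d ∈ E, d := by
        rw [← univ_inter E, ← sum_ite_mem]
        refine sum_congr rfl fun v _ => ?_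
        rcases hA 1 v with e | e
        · rw [e, if_neg fun hc => by simp [(hA1 v).2 hc] at e]; simp
        · rw [e, if_pos ((hA1 v).1 e)]; simp
      have eM : ∑ v, (A (-1) v : ZMod p) * v = ∑ d ∈ E, d - (E.card : ZMod p) := by
        have e0 : ∑ d ∈ E, d - (E.card : ZMod p) = ∑ d ∈ E, (d - 1) := by
          rw [sum_sub_distrib, sum_const, nsmul_one]
        rw [e0, ← univ_inter E, ← sum_ite_mem, ← Equiv.sum_comp (Equiv.addRight (1 : ZMod p))
          (fun d => if d ∈ E then d - 1 else 0)]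
        refine sum_congr rfl fun v _ => ?_
        simp only [Equiv.coe_addRight, add_sub_cancel_right, A]
        by_cases hh : Adj X E (-1) v
        · rw [if_pos hh, if_pos ((SE.adj_neg_one L v).1 hh)]; simp
        · rw [if_neg hh, if_neg fun hc => hh ((SE.adj_neg_one L v).2 hc)]; simp
      have z1 : ∑ j : ZMod m, (A 1 (-em ω j) : ZMod p) * (-em ω j) = 0 := by
        simp only [mul_neg, sum_neg_distrib, neg_eq_zero]
        exact h1
      have z2 : ∑ j : ZMod m, (A (-1) (em ω j) : ZMod p) * em ω j = 0 := by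
        rw [← h2]
        refine sum_congr rfl fun j _ => ?_
        rw [Asymm, show (-1 : ZMod p) = -em ω (0 : ZMod m) by rw [em_zero], Aen, zero_sub]
        rfl
      have z3 : ∑ j : ZMod m, (A (-1) (-em ω j) : ZMod p) * (-em ω j) =
          -∑ j : ZMod m, (A 1 (em ω j) : ZMod p) * em ω j := by
        simp only [mul_neg, sum_neg_distrib]
        refine congrArg _ (sum_congr rfl fun j _ => ?_)
        rw [show (-1 : ZMod p) = -em ω (0 : ZMod m) by rw [em_zero], Ann', zero_sub, hneg]
      have a := hσ 1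
      have b := hσ (-1)
      rw [eE, z1, add_zero] at a
      rw [eM, z2, zero_add, z3, ← a] at b
      linear_combination b
  -- an orbit without squares
  have noSq : ∀ E, Split X E → (∀ j : ZMod m, em ω j ∉ E) → E.card = 1 := by
    intro E SE hE
    obtain ⟨h, q, lam, mu, H, -, hh, hq⟩ := data E SE
    have hz : ∀ j, h j = 0 := fun j => (H.h01 j).resolve_right fun e => hE j ((hh j).1 e)
    have hkN : (E.card : ℤ) = ∑ j, q j := by rw [H.hk]; simp [hz]
    have hE2 : ∀ l, (if q l = 1 then lam else mu) = 0 := fun l => by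
      rw [← H.E2 l]; simp [hz]
    have hfull : ¬ ∀ l, q l = 1 := by
      intro hall
      have hEN : E = univ.image fun j : ZMod m => -em ω j := by
        refine (eq_of_subset_of_card_le (fun x hx => ?_) ?_).symm
        · obtain ⟨j, -, rfl⟩ := mem_image.1 hx
          exact (hq j).1 (hall j)
        · rw [card_image_of_injective _ (fun a b h => em_inj hω (neg_injective h)), card_univ, ZMod.card]
          have : (E.card : ℤ) = m := by rw [hkN]; simp [hall]
          omega
      refine SE.cast_card_ne ?_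
      have hmem : ∀ d ∈ E, ∃ i : ZMod m, d - 1 = em ω i := by
        intro d hd
        have hadj : Adj X E (-1) (d - 1) := (SE.adj_neg_one L _).2 (by rw [sub_add_cancel]; exact hd)
        have h0 : d - 1 ≠ 0 := sub_ne_zero.2 (mem_UU.1 (SE.sub hd)).2
        refine (hcov _ h0).resolve_right ?_
        rintro ⟨j, hj⟩
        rw [hj] at hadj
        have hflip := Adj.flip SE L hadj
        simp only [inv_neg, inv_one, neg_neg, em_inv hω] at hflip
        exact hE (-j) (SE.adj_one.1 hflip)
      have himg : E.image (fun d => d - 1) = univ.image (em ω : ZMod m → ZMod p) := by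
        refine eq_of_subset_of_card_le (fun x hx => ?_) ?_
        · obtain ⟨d, hd, rfl⟩ := mem_image.1 hx
          obtain ⟨i, hi⟩ := hmem d hd
          exact mem_image.2 ⟨i, mem_univ _, hi.symm⟩
        · rw [card_image_of_injective _ (em_inj hω), card_image_of_injective _ sub_left_injective, hEN,
            card_image_of_injective _ (fun a b h => em_inj hω (neg_injective h))]
      have hsum0 : ∑ j : ZMod m, em ω j = (0 : ZMod p) := by
        rw [sum_eq_range]
        rw [sum_congr rfl (g := fun i => ω ^ i) fun i hi => by rw [em, ZMod.val_cast_of_lt (mem_range.1 hi)]]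
        exact hω.geom_sum_eq_zero (by have := L.hp; omega)
      have e := congrArg (fun s : Finset (ZMod p) => ∑ x ∈ s, x) himg
      simp only [sum_image fun a _ b _ h => sub_left_injective h, sum_sub_distrib, sum_const, nsmul_one,
        sum_image fun a _ b _ h => em_inj hω h, hsum0] at e
      conv at e => lhs; arg 1; rw [hEN, sum_image fun a _ b _ h => em_inj hω (neg_injective h), sum_neg_distrib,
        hsum0, neg_zero]
      linear_combination -e
    obtain ⟨l0, hl0⟩ := not_forall.1 hfull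
    have hmu : mu = 0 := by have := hE2 l0; rwa [if_neg hl0] at this
    obtain ⟨l1, hl1⟩ : ∃ l, q l = 1 := by
      by_contra hc
      rw [not_exists] at hc
      have : (E.card : ℤ) = 0 := by rw [hkN]; exact sum_eq_zero fun j _ => (H.q01 j).resolve_right (hc j)
      have := SE.card_pos
      omega
    have hlam : lam = 0 := by have := hE2 l1; rwa [if_pos hl1] at this
    have hsum : ∑ l, ∑ j, q j * q (j - l) = ∑ l : ZMod m, if l = 0 then (E.card : ℤ) else 0 := by
      refine sum_congr rfl fun l _ => ?_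
      have e1 := H.E1 l
      simp only [hz, zero_mul, sum_const_zero, zero_add, hlam, hmu, ite_self] at e1
      exact e1
    rw [sum_comm, sum_ite_eq', if_pos (mem_univ _)] at hsum
    have e : ∀ j, ∑ l, q j * q (j - l) = q j * ∑ l, q l := fun j => by
      rw [← mul_sum]
      exact congrArg _ (Equiv.sum_comp (Equiv.subLeft j) q)
    rw [sum_congr rfl fun j _ => e j, ← sum_mul, ← hkN] at hsum
    have h1 : (1 : ℤ) ≤ E.card := by exact_mod_cast SE.card_pos
    have : (E.card : ℤ) = 1 := by nlinarith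
    exact_mod_cast this
  obtain ⟨h, q, lam, mu, H, hfield, hh, hq⟩ := data D S
  rcases H.main hω hfield with hc | hc | hc | hc
  · exact ⟨D, S, noSq D S fun j hj => by have := (hh j).2 hj; rw [hc j] at this; exact zero_ne_one this⟩
  · refine ⟨UU \ D, S.compl, noSq _ S.compl fun j hj => ?_⟩
    rw [mem_sdiff] at hj
    rcases eq_or_ne j 0 with rfl | hj0
    · exact (mem_UU.1 hj.1).2 em_zero
    · exact hj.2 ((hh j).1 (hc j hj0))
  · exact ⟨D, S, by exact_mod_cast hc⟩
  · refine ⟨UU \ D, S.compl, ?_⟩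
    have e1 := card_sdiff_add_card_eq_card S.sub
    rw [card_UU] at e1
    omega

/-! ### No orbit of size one -/

theorem quad_roots (a b c : ZMod p) (ha : a ≠ 0) :
    (univ.filter fun u : ZMod p => a * u ^ 2 + b * u + c = 0).card ≤ 2 := by
  open Polynomial in
  have hP : (C a * X ^ 2 + C b * X + C c : (ZMod p)[X]) ≠ 0 := fun h => by
    have := congrArg (fun P => Polynomial.coeff P 2) h
    simp [coeff_X, coeff_C] at this
    exact ha this
  refine le_trans (card_le_degree_of_subset_roots (p := Polynomial.C a * Polynomial.X ^ 2 + Polynomial.C b * Polynomial.X + Polynomial.C c) ?_)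
    Polynomial.natDegree_quadratic_le
  intro u hu
  have hu' : u ∈ univ.filter fun u : ZMod p => a * u ^ 2 + b * u + c = 0 := hu
  rw [Polynomial.mem_roots hP]
  simpa [Polynomial.IsRoot] using (mem_filter.1 hu').2

theorem no_root_eleven : ∀ x : ZMod 11, x * x ≠ x - 1 := by decide

theorem Split.not_singleton (S : Split X D) (L : LineGrp X) (h1 : D.card = 1) : False := by
  obtain ⟨δ, rfl⟩ := card_eq_one.1 h1
  have hns := S.neg_one_nonsq L
  obtain ⟨hδ0, hδ1⟩ := mem_UU.1 (S.sub (mem_singleton_self δ))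
  have a1 : Adj X {δ} 1 δ := S.adj_one.2 (mem_singleton_self δ)
  have huniq : ∀ {v}, Adj X {δ} 1 v → v = δ := fun hv => mem_singleton.1 (S.adj_one.1 hv)
  have hδns : ¬ IsSquare δ := by
    intro hsq
    have := Adj.scale L (isSquare_inv.2 hsq) (inv_ne_zero hδ0) (S.adj_symm L a1)
    rw [inv_mul_cancel₀ hδ0, mul_one] at this
    have h2 : δ * δ = 1 := by
      have e := huniq this
      field_simp at e
      linear_combination -e
    rcases mul_self_eq_one_iff.1 h2 with e | e
    · exact hδ1 e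
    · exact hns (e ▸ hsq)
  have hF2 : ringChar (ZMod p) ≠ 2 := by rw [ZMod.ringChar_zmod_n]; have := L.hp; omega
  have hmul : ∀ {a b : ZMod p}, a ≠ 0 → b ≠ 0 → ¬ IsSquare a → ¬ IsSquare b → IsSquare (a * b) := by
    intro a b ha hb ha' hb'
    rw [← quadraticChar_one_iff_isSquare (mul_ne_zero ha hb), map_mul,
      quadraticChar_neg_one_iff_not_isSquare.2 ha', quadraticChar_neg_one_iff_not_isSquare.2 hb']
    norm_num
  have hroot : δ * δ = δ - 1 := by
    have hs : IsSquare (-δ⁻¹) := by
      rw [← neg_one_mul]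
      exact hmul (neg_ne_zero.2 one_ne_zero) (inv_ne_zero hδ0) hns (fun h => hδns (isSquare_inv.1 h))
    have := Adj.scale L hs (neg_ne_zero.2 (inv_ne_zero hδ0)) (S.adj_symm L a1)
    rw [neg_mul, inv_mul_cancel₀ hδ0, mul_one] at this
    have e := mem_singleton.1 ((S.adj_neg_one L _).1 this)
    field_simp at e
    linear_combination -e
  have hp19 : 16 ≤ p - 3 := by
    have hp4 : p % 4 = 3 := by
      by_contra h
      exact hns (ZMod.exists_sq_eq_neg_one_iff.2 h)
    by_contra hlt
    have hval := δ.val_lt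
    have key : p = 11 → False := by
      intro e
      subst e
      exact no_root_eleven δ hroot
    have := L.hp
    have hpp : p.Prime := Fact.out
    rcases (show p = 11 ∨ p = 15 by omega) with e | e
    · exact key e
    · rw [e] at hpp; norm_num at hpp
  -- the partner
  have hex : ∀ u : ZMod p, u ≠ 0 → ∃ v, Adj X {δ} u v := by
    intro u hu
    obtain ⟨g, hg, g0, rfl⟩ := L.trans0 hu
    exact ⟨g δ, Adj.map a1 hg g0⟩
  have huniq' : ∀ {u v v'}, Adj X {δ} u v → Adj X {δ} u v' → v = v' := by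
    intro u v v' hv hv'
    obtain ⟨g, hg, g0, rfl⟩ := L.trans0 (S.adj_ne hv).1
    have key : ∀ w, Adj X {δ} (g 1) w → w = g δ := by
      intro w hw
      obtain ⟨d, rfl⟩ : ∃ d, g d = w := ⟨g⁻¹ w, by simp⟩
      rw [mem_singleton.1 ((S.adj_iff hg g0).1 hw)]
    rw [key v hv, key v' hv']
  choose τ hτ using hex
  have hτval : ∀ u v, Adj X {δ} u v → v = δ * u ∨ u = δ * v := by
    intro u v h
    obtain ⟨hu, hv, -⟩ := S.adj_ne h
    by_cases hsq : IsSquare u
    · left
      have := Adj.scale L (isSquare_inv.2 hsq) (inv_ne_zero hu) h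
      rw [inv_mul_cancel₀ hu] at this
      rw [← huniq this]; field_simp
    · right
      have hs : IsSquare (δ * u⁻¹) := hmul hδ0 (inv_ne_zero hu) hδns fun h => hsq (isSquare_inv.1 h)
      have := Adj.scale L hs (mul_ne_zero hδ0 (inv_ne_zero hu)) h
      rw [mul_assoc, inv_mul_cancel₀ hu, mul_one] at this
      have e := huniq' this (S.adj_symm L a1)
      field_simp at e
      linear_combination -e
  -- the equations when `1, δ, u, τu` is a quadruple
  have hξ : ∀ {u v}, u ≠ δ → v ≠ δ → Rel X {δ} (some 1) (some δ) (some u) (some v) →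
      Adj X {δ} (δ - (u - δ)⁻¹) (δ - (v - δ)⁻¹) := by
    intro u v hu hv h
    have hm : (Equiv.addRight δ).optionCongr * wo * (Equiv.addRight (-δ)).optionCongr ∈ X :=
      mul_mem (mul_mem (L.trans_atInf δ) L.w_mem) (L.trans_atInf (-δ))
    have := S.perm12 L (Rel.map h hm)
    have e1 : δ + (-(1 + -δ)⁻¹) = 0 := by
      rw [inv_eq_of_mul_eq_one_right (show (1 + -δ) * δ = 1 by linear_combination -hroot)]; ring
    have hu' : u + -δ ≠ 0 := by rwa [← sub_eq_add_neg, sub_ne_zero]
    have hv' : v + -δ ≠ 0 := by rwa [← sub_eq_add_neg, sub_ne_zero]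
    have h1' : (1 : ZMod p) + -δ ≠ 0 := by rw [← sub_eq_add_neg, sub_ne_zero]; exact hδ1.symm
    simp only [Perm.mul_apply, Equiv.optionCongr_apply, Option.map_some, Equiv.coe_addRight, add_neg_cancel,
      wo_zero, Option.map_none, wo_some hu', wo_some hv', wo_some h1'] at this
    rw [show -(1 + -δ)⁻¹ + δ = 0 by linear_combination e1] at this
    rw [show δ - (u - δ)⁻¹ = -(u + -δ)⁻¹ + δ by ring, show δ - (v - δ)⁻¹ = -(v + -δ)⁻¹ + δ by ring]
    exact this
  set U' := UU.erase δ with hU'
  have hU'c : U'.card = p - 3 := by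
    rw [hU', card_erase_of_mem (S.sub (mem_singleton_self δ)), card_UU]; omega
  have hU'sd : UU \ {δ} = U' := by rw [hU', sdiff_singleton_eq_erase]
  -- all or none
  have hnone : ∀ u ∈ U', ∀ v, Adj X {δ} u v → ¬ Rel X {δ} (some 1) (some δ) (some u) (some v) := by
    intro u hu v hv hR
    have hall : ∀ u' ∈ U', ∀ v', Adj X {δ} u' v' → Rel X {δ} (some 1) (some δ) (some u') (some v') := by
      intro u' hu' v' hv'
      obtain ⟨g, hg, g0, g1, rfl⟩ := S.tr' u (hU'sd ▸ hu) u' (hU'sd ▸ hu')
      have gδ : g δ = δ := mem_singleton.1 (S.inv g hg g0 g1 δ (mem_singleton_self δ))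
      obtain rfl : v' = g v := huniq' hv' (Adj.map hv hg g0)
      have := Rel.map hR (mem_atInf.1 hg)
      simpa [g1, gδ] using this
    let r1 : Finset (ZMod p) := univ.filter fun u => 1 * u ^ 2 + (δ - 2) * u + 1 = 0
    let r2 : Finset (ZMod p) := univ.filter fun u => (1 - δ) * u ^ 2 + (δ - 2) * u + (1 - δ) = 0
    let r3 : Finset (ZMod p) := r2.image (δ * ·)
    let r4 : Finset (ZMod p) := r1.image (δ * ·)
    have hsub : U' ⊆ (r1 ∪ r2) ∪ (r3 ∪ r4) := by
      intro w hw
      have hwU := mem_UU.1 (mem_of_mem_erase hw)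
      have hwδ := ne_of_mem_erase hw
      have hR' := hall w hw _ (hτ w hwU.1)
      set z := τ w hwU.1
      have hzδ : z ≠ δ := by
        intro e
        have := S.adj_symm L (hτ w hwU.1)
        rw [show τ w hwU.1 = δ from e] at this
        exact hwU.2 (huniq' this (S.adj_symm L a1))
      have hx := hτval _ _ (hξ hwδ hzδ hR')
      have i1 := mul_inv_cancel₀ (sub_ne_zero.2 hwδ)
      have i2 := mul_inv_cancel₀ (sub_ne_zero.2 hzδ)
      set I := (w - δ)⁻¹
      set J := (z - δ)⁻¹
      simp only [mem_union, r1, r2, r3, r4, mem_image, mem_filter, mem_univ, true_and]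
      rcases hτval _ _ (hτ w hwU.1) with hz | hz <;> rcases hx with hx | hx
      · left; left
        have e : (δ * (z - δ) - 1) * (w - δ) = δ * (δ * (w - δ) - 1) * (z - δ) := by
          linear_combination (z - δ) * (w - δ) * hx + (w - δ) * i2 - δ * (z - δ) * i1
        rw [show z = δ * w from hz] at e
        refine mul_left_cancel₀ hδ0 ?_
        rw [mul_zero]
        linear_combination e + (δ * (w ^ 2 - w + 1) + (w - δ) - δ * (δ * w - δ)) * hroot
      · left; right
        have e : (δ * (w - δ) - 1) * (z - δ) = δ * (δ * (z - δ) - 1) * (w - δ) := by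
          linear_combination (z - δ) * (w - δ) * hx + (z - δ) * i1 - δ * (w - δ) * i2
        rw [show z = δ * w from hz] at e
        refine mul_left_cancel₀ (mul_ne_zero hδ0 hδ0) ?_
        rw [mul_zero]
        linear_combination e - (δ ^ 2 * w - (δ * w - δ) + δ * (w - δ)) * hroot
      · right; left
        refine ⟨z, ?_, hz.symm⟩
        have e : (δ * (z - δ) - 1) * (w - δ) = δ * (δ * (w - δ) - 1) * (z - δ) := by
          linear_combination (z - δ) * (w - δ) * hx + (w - δ) * i2 - δ * (z - δ) * i1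
        rw [hz] at e
        refine mul_left_cancel₀ (mul_ne_zero hδ0 hδ0) ?_
        rw [mul_zero]
        linear_combination e - (δ ^ 2 * z - (δ * z - δ) + δ * (z - δ)) * hroot
      · right; right
        refine ⟨z, ?_, hz.symm⟩
        have e : (δ * (w - δ) - 1) * (z - δ) = δ * (δ * (z - δ) - 1) * (w - δ) := by
          linear_combination (z - δ) * (w - δ) * hx + (z - δ) * i1 - δ * (w - δ) * i2
        rw [hz] at e
        refine mul_left_cancel₀ hδ0 ?_
        rw [mul_zero]
        linear_combination e + (δ * (z ^ 2 - z + 1) + (z - δ) - δ * (δ * z - δ)) * hroot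
    have := card_le_card hsub
    have b1 := card_union_le (r1 ∪ r2) (r3 ∪ r4)
    have b2 := card_union_le r1 r2
    have b3 := card_union_le r3 r4
    have h1δ : (1 : ZMod p) - δ ≠ 0 := sub_ne_zero.2 hδ1.symm
    have c1 : r1.card ≤ 2 := quad_roots _ _ _ one_ne_zero
    have c2 : r2.card ≤ 2 := quad_roots _ _ _ h1δ
    have c3 : r3.card ≤ 2 := card_image_le.trans c2
    have c4 : r4.card ≤ 2 := card_image_le.trans c1
    omega
  -- no two edges make a quadruple
  have hnone' : ∀ {a c e b}, Adj X {δ} a b → Adj X {δ} c e → c ≠ a → c ≠ b →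
      ¬ Rel X {δ} (some a) (some b) (some c) (some e) := by
    intro a c e b hab hce hca hcb hR
    obtain ⟨g, hg, g0, rfl⟩ := L.trans0 (S.adj_ne hab).1
    obtain rfl : b = g δ := huniq' hab (Adj.map a1 hg g0)
    obtain ⟨u, rfl⟩ : ∃ u, g u = c := ⟨g⁻¹ c, by simp⟩
    obtain ⟨v, rfl⟩ : ∃ v, g v = e := ⟨g⁻¹ e, by simp⟩
    have hu0 : u ≠ 0 := fun h => (S.adj_ne hce).1 (by rw [h, g0])
    have hi := mem_atInf.1 (inv_mem hg)
    have hadj : Adj X {δ} u v := by
      have := Adj.map hce (inv_mem hg) (by rw [Perm.inv_eq_iff_eq, g0])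
      simpa using this
    refine hnone u ?_ v hadj ?_
    · rw [hU', mem_erase, mem_UU]
      exact ⟨fun h => hcb (by rw [h]), hu0, fun h => hca (by rw [h])⟩
    · have := Rel.map hR hi
      simpa using this
  -- count
  set Dom := univ.filter fun z : ZMod p × ZMod p => z.1 ≠ 0 ∧ z.2 ≠ 0 ∧ z.2 ≠ z.1 ∧ ¬ Adj X {δ} z.1 z.2 with hDom
  have hDmem : ∀ a c : ZMod p, (a, c) ∈ Dom ↔ a ≠ 0 ∧ c ≠ 0 ∧ c ≠ a ∧ ¬ Adj X {δ} a c := fun a c => by
    simp [hDom]
  have hΦ : ∀ z ∈ Dom, ∃ e, Rel X {δ} (some z.1) (some (if h : z.1 ≠ 0 then τ z.1 h else 0)) (some z.2) (some e) ∧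
      (z.2, e) ∈ Dom := by
    rintro ⟨a, c⟩ hz
    obtain ⟨ha, hc, hca, hnadj⟩ := (hDmem a c).1 hz
    simp only [ne_eq, ha, not_false_eq_true, dite_true]
    have hab := hτ a ha
    set b := τ a ha
    obtain ⟨-, hb, hne⟩ := S.adj_ne hab
    have hcb : c ≠ b := fun h => hnadj (h ▸ hab)
    obtain ⟨x, hx, xn, x0, x1⟩ := L.three (a := some a) (b := some b) (c := some c) (by simpa using hne)
      (by simpa using hca.symm) (by simpa using hcb.symm)
    have hR : Rel X {δ} (some a) (some b) (some c) (x (some δ)) :=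
      ⟨x, hx, δ, mem_singleton_self δ, xn, x0, x1, rfl⟩
    have huniqR : ∀ {e}, Rel X {δ} (some a) (some b) (some c) e → e = x (some δ) := by
      rintro e ⟨y, hy, d, hd, yn, y0, y1, rfl⟩
      obtain rfl := mem_singleton.1 hd
      obtain ⟨k, hk, hkv⟩ := exists_atInf (mul_mem (inv_mem hx) hy) (by simp [yn, ← xn])
      have k0 : k 0 = 0 := Option.some.inj ((hkv 0).symm.trans (by simp [y0, ← x0]))
      have k1 : k 1 = 1 := Option.some.inj ((hkv 1).symm.trans (by simp [y1, ← x1]))
      have kd : k d = d := mem_singleton.1 (S.inv k hk k0 k1 d hd)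
      have := hkv d
      rw [kd, Perm.mul_apply, Perm.inv_eq_iff_eq] at this
      exact this
    have hadj0 : Adj X {δ} a b := hab
    rcases hxe : x (some δ) with _ | e
    · exfalso
      rw [hxe] at hR
      -- `a, b, c, ∞`
      have h' : Rel X {δ} none (some a) (some b) (some c) :=
        S.perm12 L (S.perm23 L (S.perm34 L hR))
      have h'' : Rel X {δ} none (some a) (some b) (some 0) :=
        S.perm34 L (S.perm23 L hab)
      obtain ⟨x', hx', d', hd', n', a', b', c'⟩ := h'
      obtain ⟨x'', hx'', d'', hd'', n'', a'', b'', c''⟩ := h''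
      obtain rfl := mem_singleton.1 hd'
      obtain rfl := mem_singleton.1 hd''
      obtain ⟨k, hk, hkv⟩ := exists_atInf (mul_mem (inv_mem hx') hx'') (by rw [Perm.mul_apply, Perm.inv_eq_iff_eq, n'', n'])
      have k0 : k 0 = 0 := Option.some.inj ((hkv 0).symm.trans (by rw [Perm.mul_apply, Perm.inv_eq_iff_eq, a'', a']))
      have k1 : k 1 = 1 := Option.some.inj ((hkv 1).symm.trans (by rw [Perm.mul_apply, Perm.inv_eq_iff_eq, b'', b']))
      have kd := mem_singleton.1 (S.inv k hk k0 k1 d'' hd'')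
      have := hkv d''
      rw [kd, Perm.mul_apply, Perm.inv_eq_iff_eq, c', c''] at this
      exact hc (Option.some.inj this).symm
    rw [hxe] at hR
    refine ⟨e, hR, (hDmem c e).2 ⟨hc, ?_, ?_, fun hce => hnone' hadj0 hce hca hcb hR⟩⟩
    · rintro rfl
      -- `a, b, c, 0`
      have h' : Rel X {δ} (some 0) (some a) (some b) (some c) :=
        S.perm12 L (S.perm23 L (S.perm34 L hR))
      have h'' : Rel X {δ} (some 0) (some a) (some b) none :=
        S.perm34 L (S.perm23 L (S.perm12 L hab))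
      obtain ⟨x', hx', d', hd', n', a', b', c'⟩ := h'
      obtain ⟨x'', hx'', d'', hd'', n'', a'', b'', c''⟩ := h''
      obtain rfl := mem_singleton.1 hd'
      obtain rfl := mem_singleton.1 hd''
      obtain ⟨k, hk, hkv⟩ := exists_atInf (mul_mem (inv_mem hx') hx'') (by simp [n'', ← n'])
      have k0 : k 0 = 0 := Option.some.inj ((hkv 0).symm.trans (by simp [a'', ← a']))
      have k1 : k 1 = 1 := Option.some.inj ((hkv 1).symm.trans (by simp [b'', ← b']))
      have kd := mem_singleton.1 (S.inv k hk k0 k1 d'' hd'')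
      have := hkv d''
      rw [kd, Perm.mul_apply, Perm.inv_eq_iff_eq, c', c''] at this
      exact Option.some_ne_none _ this.symm
    · rintro rfl
      exact (Rel.ne S.sub hR).2.2.2.2.2 rfl
  choose! Φ hΦR hΦD using hΦ
  set f : ZMod p × ZMod p → ZMod p × ZMod p := fun z => (z.2, Φ z) with hf
  have hmaps : ∀ z ∈ Dom, f z ∈ Dom := hΦD
  -- fibres have two elements
  have hfib : ∀ {a b c e}, (a, c) ∈ Dom → Adj X {δ} a b → Φ (a, c) = e → (b, c) ∈ Dom ∧ Φ (b, c) = e := by
    intro a b c e hac hab he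
    obtain ⟨ha, hc, hca, hnadj⟩ := (hDmem a c).1 hac
    obtain ⟨-, hb, -⟩ := S.adj_ne hab
    have hba := S.adj_symm L hab
    have hbc : (b, c) ∈ Dom := (hDmem b c).2 ⟨hb, hc, fun h => hnadj (h ▸ hab), fun h => hca (huniq' h hba)⟩
    refine ⟨hbc, ?_⟩
    have r1 := hΦR _ hac
    have r2 := hΦR _ hbc
    simp only [ne_eq, ha, hb, not_false_eq_true, dite_true] at r1 r2
    rw [huniq' (hτ a ha) hab] at r1
    rw [huniq' (hτ b hb) hba] at r2
    have r2' := S.perm12 L r2
    obtain ⟨x', hx', d', hd', n', a', b', c'⟩ := r1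
    obtain ⟨x'', hx'', d'', hd'', n'', a'', b'', c''⟩ := r2'
    obtain rfl := mem_singleton.1 hd'
    obtain rfl := mem_singleton.1 hd''
    obtain ⟨k, hk, hkv⟩ := exists_atInf (mul_mem (inv_mem hx') hx'') (by simp [n'', ← n'])
    have k0 : k 0 = 0 := Option.some.inj ((hkv 0).symm.trans (by simp [a'', ← a']))
    have k1 : k 1 = 1 := Option.some.inj ((hkv 1).symm.trans (by simp [b'', ← b']))
    have kd := mem_singleton.1 (S.inv k hk k0 k1 d'' hd'')
    have := hkv d''
    rw [kd, Perm.mul_apply, Perm.inv_eq_iff_eq, c', c''] at this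
    rw [Option.some.inj this]; exact he
  obtain ⟨a0, ha0⟩ : ∃ z, z ∈ Dom := by
    obtain ⟨c, hc⟩ := S.ne'
    rw [mem_sdiff, mem_UU] at hc
    exact ⟨(1, c), (hDmem 1 c).2 ⟨one_ne_zero, hc.1.1, hc.1.2, fun h => hc.2 (S.adj_one.1 h)⟩⟩
  have hsurj : ∀ w ∈ Dom, ∃ z ∈ Dom, f z = w := by
    rintro ⟨c, e⟩ hce
    obtain ⟨a, c0⟩ := a0
    have hw := hmaps _ ha0
    obtain ⟨hc0, he0, he0c, hnadj0⟩ := (hDmem c0 (Φ (a, c0))).1 hw
    obtain ⟨hc, he, hec, hnadj⟩ := (hDmem c e).1 hce
    obtain ⟨g1, hg1, g10, g11⟩ := L.trans0 hc0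
    obtain ⟨g2, hg2, g20, g21⟩ := L.trans0 hc
    obtain ⟨d1, hd1⟩ : ∃ d, g1 d = Φ (a, c0) := ⟨g1.symm (Φ (a, c0)), Equiv.apply_symm_apply _ _⟩
    obtain ⟨d2, hd2⟩ : ∃ d, g2 d = e := ⟨g2⁻¹ e, by simp⟩
    have hm1 : d1 ∈ UU \ {δ} := by
      rw [mem_sdiff, mem_UU]
      refine ⟨⟨fun h => he0 (by rw [← hd1, h, g10]), fun h => he0c (by rw [← hd1, h, g11])⟩, fun h => hnadj0 ?_⟩
      rw [← hd1, ← g11]
      exact (S.adj_iff hg1 g10).2 h
    have hm2 : d2 ∈ UU \ {δ} := by
      rw [mem_sdiff, mem_UU]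
      refine ⟨⟨fun h => he (by rw [← hd2, h, g20]), fun h => hec (by rw [← hd2, h, g21])⟩, fun h => hnadj ?_⟩
      rw [← hd2, ← g21]
      exact (S.adj_iff hg2 g20).2 h
    obtain ⟨k, hk, k0, k1, kd⟩ := S.tr' d1 hm1 d2 hm2
    obtain ⟨y, hy, y0, yc, ye⟩ : ∃ y ∈ atInf X, y 0 = 0 ∧ y c0 = c ∧ y (Φ (a, c0)) = e := by
      refine ⟨g2 * k * g1⁻¹, mul_mem (mul_mem hg2 hk) (inv_mem hg1), ?_, ?_, ?_⟩
      · rw [Perm.mul_apply, Perm.inv_eq_iff_eq.2 g10.symm]; simp [k0, g20]
      · rw [Perm.mul_apply, Perm.inv_eq_iff_eq.2 g11.symm]; simp [k1, g21]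
      · rw [Perm.mul_apply, Perm.inv_eq_iff_eq.2 hd1.symm]; simp [kd, hd2]
    obtain ⟨ha, -, hc0a, hna⟩ := (hDmem a c0).1 ha0
    have hya : (y a, c) ∈ Dom := by
      refine (hDmem _ _).2 ⟨fun h => ha (y.injective (h.trans y0.symm)), hc, ?_, ?_⟩
      · rw [← yc]; exact fun h => hc0a (y.injective h)
      · intro h
        rw [← yc] at h
        have := Adj.map h (inv_mem hy) (by rw [Perm.inv_eq_iff_eq, y0])
        simp only [Perm.inv_def, Equiv.symm_apply_apply] at this
        exact hna this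
    refine ⟨_, hya, ?_⟩
    have r1 := hΦR _ ha0
    have r2 := hΦR _ hya
    have hya0 : y a ≠ 0 := ((hDmem _ _).1 hya).1
    simp only [ne_eq, ha, hya0, not_false_eq_true, dite_true] at r1 r2
    rw [huniq' (hτ _ hya0) (Adj.map (hτ a ha) hy y0)] at r2
    have r1' := Rel.map r1 (mem_atInf.1 hy)
    simp only [Equiv.optionCongr_apply, Option.map_some, yc, ye] at r1'
    obtain ⟨x', hx', d', hd', n', a', b', c'⟩ := r1'
    obtain ⟨x'', hx'', d'', hd'', n'', a'', b'', c''⟩ := r2
    obtain rfl := mem_singleton.1 hd'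
    obtain rfl := mem_singleton.1 hd''
    obtain ⟨k, hk, hkv⟩ := exists_atInf (mul_mem (inv_mem hx') hx'') (by simp [n'', ← n'])
    have k0 : k 0 = 0 := Option.some.inj ((hkv 0).symm.trans (by simp [a'', ← a']))
    have k1 : k 1 = 1 := Option.some.inj ((hkv 1).symm.trans (by simp [b'', ← b']))
    have kd := mem_singleton.1 (S.inv k hk k0 k1 d'' hd'')
    have := hkv d''
    rw [kd, Perm.mul_apply, Perm.inv_eq_iff_eq, c', c''] at this
    exact Prod.ext rfl (Option.some.inj this)
  obtain ⟨a, c⟩ := a0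
  obtain ⟨ha, -, -, -⟩ := (hDmem a c).1 ha0
  obtain ⟨hb, hbe⟩ := hfib ha0 (hτ a ha) rfl
  have hsub : Dom ⊆ (Dom.erase (a, c)).image f := by
    intro w hw
    obtain ⟨z, hz, rfl⟩ := hsurj w hw
    by_cases h : z = (a, c)
    · subst h
      refine mem_image.2 ⟨(τ a ha, c), mem_erase.2 ⟨fun h => (S.adj_ne (hτ a ha)).2.2 (congrArg Prod.fst h).symm, hb⟩, ?_⟩
      exact Prod.ext rfl hbe
    · exact mem_image.2 ⟨z, mem_erase.2 ⟨h, hz⟩, rfl⟩
  have := (card_le_card hsub).trans card_image_le
  rw [card_erase_of_mem ha0] at this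
  have := Finset.card_pos.2 ⟨_, ha0⟩
  omega

/-- The stabiliser of three points is transitive on the others. -/
theorem LineGrp.trans_rest (L : LineGrp X) {d1 d2 : ZMod p} (h1 : d1 ∈ UU) (h2 : d2 ∈ UU) :
    ∃ g ∈ atInf X, g 0 = 0 ∧ g 1 = 1 ∧ g d1 = d2 := by
  by_contra h
  obtain ⟨D, S⟩ := L.split h1 h2 h
  obtain ⟨E, SE, hE⟩ := S.singleton L
  exact SE.not_singleton L hE

end

end Cfsg.Agent.Lib.PrimeLine
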