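import Mathlib

/-!
A group of permutations of `ZMod p` that contains the translations and is orthogonal to a non-constant weight
consists of affine maps.
-/

set_option autoImplicit false

namespace Cfsg.Agent.Lib.PrimeLine

open Polynomial Finset

variable {p : ℕ} [Fact p.Prime]

theorem exists_poly (f : ZMod p → ZMod p) : ∃ P : (ZMod p)[X], P.natDegree < p ∧ ∀ x, P.eval x = f x := by
  refine ⟨Lagrange.interpolate univ id f, ?_, fun x => ?_⟩
  · have h := Lagrange.degree_interpolate_lt (F := ZMod p) (s := (univ : Finset (ZMod p))) f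
      (v := id) (Function.injective_id.injOn)
    rw [Finset.card_univ, ZMod.card] at h
    by_cases h0 : Lagrange.interpolate univ id f = 0
    · rw [h0]; simpa using (Fact.out : p.Prime).pos
    · exact (natDegree_lt_iff_degree_lt h0).2 h
  · exact Lagrange.eval_interpolate_at_node f Function.injective_id.injOn (mem_univ x)

theorem poly_unique {P Q : (ZMod p)[X]} (hP : P.natDegree < p) (hQ : Q.natDegree < p)
    (h : ∀ x, P.eval x = Q.eval x) : P = Q := by
  refine eq_of_natDegree_lt_card_of_eval_eq P Q (f := id) Function.injective_id h ?_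
  rw [ZMod.card]
  exact max_lt hP hQ

theorem sum_eval (P : (ZMod p)[X]) (hP : P.natDegree ≤ p - 1) :
    ∑ x : ZMod p, P.eval x = - P.coeff (p - 1) := by
  have hp := (Fact.out : p.Prime).two_le
  have key : ∀ i ∈ range (p - 1 + 1), ∑ x : ZMod p, P.coeff i * x ^ i = if i = p - 1 then -P.coeff i else 0 := by
    intro i hi
    rw [← mul_sum]
    split_ifs with h
    · subst h
      have e : ∀ x : ZMod p, x ^ (p - 1) = if x = 0 then 0 else 1 := fun x => by
        split_ifs with hx
        · simp [hx, zero_pow (show p - 1 ≠ 0 by omega)]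
        · exact ZMod.pow_card_sub_one_eq_one hx
      rw [sum_congr rfl (fun x _ => e x)]
      rw [Finset.sum_ite, sum_const_zero, zero_add, sum_const, filter_ne' univ (0 : ZMod p), card_erase_of_mem (mem_univ _),
        card_univ, ZMod.card, nsmul_one, Nat.cast_sub (by omega), ZMod.natCast_self]
      ring
    · rw [FiniteField.sum_pow_lt_card_sub_one (K := ZMod p) i (by rw [ZMod.card]; rw [mem_range] at hi; omega), mul_zero]
  calc ∑ x : ZMod p, P.eval x = ∑ x : ZMod p, ∑ i ∈ range (p - 1 + 1), P.coeff i * x ^ i :=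
        sum_congr rfl fun x _ => eval_eq_sum_range' (by omega) x
    _ = ∑ i ∈ range (p - 1 + 1), ∑ x : ZMod p, P.coeff i * x ^ i := sum_comm
    _ = _ := by rw [sum_congr rfl key, sum_ite_eq' (range (p - 1 + 1)) (p - 1) (fun i => -P.coeff i)]; simp

/-- The difference of a polynomial has degree exactly one less. -/
theorem natDegree_diff {P : (ZMod p)[X]} {j : ℕ} (hP : P.natDegree = j + 1) (hj : j + 1 < p) :
    (taylor (1 : ZMod p) P - P).natDegree = j ∧ (taylor (1 : ZMod p) P - P).coeff j ≠ 0 := by
  have hc : (taylor (1 : ZMod p) P - P).coeff j = ((j + 1 : ℕ) : ZMod p) * P.coeff (j + 1) := by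
    have hd : (hasseDeriv j P).natDegree < 2 := by
      have := natDegree_hasseDeriv_le P j
      omega
    rw [coeff_sub, taylor_coeff, eval_eq_sum_range' hd, sum_range_succ, sum_range_one, hasseDeriv_coeff,
      hasseDeriv_coeff, zero_add, Nat.choose_self, Nat.cast_one, one_mul, pow_zero, pow_one, mul_one, mul_one,
      add_comm 1 j, Nat.choose_succ_self_right]
    ring
  have hne : (taylor (1 : ZMod p) P - P).coeff j ≠ 0 := by
    rw [hc]
    refine mul_ne_zero ?_ ?_
    · rw [Ne, ZMod.natCast_eq_zero_iff]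
      exact fun h => absurd (Nat.le_of_dvd (Nat.succ_pos j) h) (by omega)
    · rw [← hP]
      exact leadingCoeff_ne_zero.2 fun h => by simp [h] at hP
  refine ⟨le_antisymm ?_ (le_natDegree_of_ne_zero hne), hne⟩
  rw [natDegree_le_iff_coeff_eq_zero]
  intro N hN
  rcases Nat.lt_or_ge (j + 1) N with h | h
  · rw [coeff_sub, coeff_eq_zero_of_natDegree_lt (show P.natDegree < N by omega),
      coeff_eq_zero_of_natDegree_lt (show (taylor (1 : ZMod p) P).natDegree < N by rw [natDegree_taylor]; omega), sub_zero]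
  · obtain rfl : N = j + 1 := by omega
    have hd : (hasseDeriv (j + 1) P).natDegree < 1 := by
      have := natDegree_hasseDeriv_le P (j + 1)
      omega
    rw [coeff_sub, taylor_coeff, eval_eq_sum_range' hd, sum_range_one, hasseDeriv_coeff, zero_add, Nat.choose_self]
    simp

/-- A group containing all translations, orthogonal to a non-constant weight, is affine. -/
theorem affine_of_ann (Y : Subgroup (Equiv.Perm (ZMod p))) (hT : ∀ b : ZMod p, Equiv.addRight b ∈ Y)
    (w : ZMod p → ZMod p) (hw : ∀ g ∈ Y, ∑ x, w x * g x = 0) (hne : ∃ x, w x ≠ w 0) :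
    ∀ g ∈ Y, ∃ a b : ZMod p, ∀ x, g x = a * x + b := by
  classical
  have hp := (Fact.out : p.Prime).two_le
  set A : Set (ZMod p → ZMod p) := {v | ∀ g ∈ Y, ∑ x, v x * g x = 0} with hA
  have hsub : ∀ v ∈ A, ∀ v' ∈ A, ∀ c : ZMod p, (fun x => v x - c * v' x) ∈ A := by
    intro v hv v' hv' c g hg
    simp only [sub_mul, sum_sub_distrib, mul_assoc, ← mul_sum, hv g hg, hv' g hg, mul_zero, sub_zero]
  have hone : ∀ v ∈ A, ∀ c : ZMod p, (fun x => c * v x) ∈ A := by
    intro v hv c g hg
    simp only [mul_assoc, ← mul_sum, hv g hg, mul_zero]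
  have hcomp : ∀ v ∈ A, ∀ h ∈ Y, (fun x => v (h x)) ∈ A := by
    intro v hv h hh g hg
    have := hv (g * h⁻¹) (mul_mem hg (inv_mem hh))
    rw [← Equiv.sum_comp h] at this
    simpa [Equiv.Perm.mul_apply] using this
  let S : Set ℕ := {n | ∃ P : (ZMod p)[X], P.natDegree = n ∧ P ≠ 0 ∧ n < p ∧ (fun x => P.eval x) ∈ A}
  have hwA : w ∈ A := hw
  obtain ⟨Pw, hPw, hPwe⟩ := exists_poly w
  have hPwS : Pw.natDegree ∈ S := by
    refine ⟨Pw, rfl, ?_, hPw, by simpa only [hPwe] using hwA⟩
    rintro rfl
    obtain ⟨x, hx⟩ := hne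
    exact hx (by rw [← hPwe, ← hPwe, eval_zero, eval_zero])
  have hPw1 : 1 ≤ Pw.natDegree := by
    by_contra hlt
    obtain ⟨c, hc⟩ := natDegree_eq_zero.1 (show Pw.natDegree = 0 by omega)
    obtain ⟨x, hx⟩ := hne
    exact hx (by rw [← hPwe, ← hPwe, ← hc, eval_C, eval_C])
  obtain ⟨k, hkS, hkmax⟩ : ∃ k ∈ S, ∀ n ∈ S, n ≤ k := by
    have hfin : S.Finite := Set.Finite.subset (Set.finite_lt_nat p) (by rintro n ⟨_, _, _, h, _⟩; exact h)
    obtain ⟨k, hk, hk'⟩ := Set.Finite.exists_maximalFor id S hfin ⟨_, hPwS⟩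
    exact ⟨k, hk, fun n hn => le_of_not_gt fun h => absurd (hk' hn h.le) (not_le.2 h)⟩
  have hk1 : 1 ≤ k := hPw1.trans (hkmax _ hPwS)
  have hkp : k < p := by rcases id hkS with ⟨_, _, _, h, _⟩; exact h
  -- exact degrees
  have hdeg : ∀ j ≤ k, ∃ P : (ZMod p)[X], P.natDegree = j ∧ P.coeff j ≠ 0 ∧ (fun x => P.eval x) ∈ A := by
    have aux : ∀ d j, j + d = k → ∃ P : (ZMod p)[X], P.natDegree = j ∧ P.coeff j ≠ 0 ∧
        (fun x => P.eval x) ∈ A := by
      intro d
      induction d with
      | zero =>
        intro j hj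
        obtain ⟨P, h1, h2, -, h3⟩ := hkS
        refine ⟨P, by omega, ?_, h3⟩
        have := leadingCoeff_ne_zero.2 h2
        rw [leadingCoeff, h1] at this
        rwa [show j = k by omega]
      | succ d ih =>
        intro j hj
        obtain ⟨P, h1, h2, h3⟩ := ih (j + 1) (by omega)
        obtain ⟨h4, h5⟩ := natDegree_diff h1 (by omega)
        refine ⟨_, h4, h5, ?_⟩
        have := hsub _ (hcomp _ h3 _ (hT 1)) _ h3 1
        convert this using 1
        funext x
        simp [taylor_eval, add_comm]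
    exact fun j hj => aux (k - j) j (by omega)
  have hall : ∀ j, ∀ Q : (ZMod p)[X], Q.natDegree = j → j ≤ k → (fun x => Q.eval x) ∈ A := by
    intro j
    induction j using Nat.strong_induction_on with
    | _ j ih =>
      intro Q hQ hj
      obtain ⟨P, h1, h2, h3⟩ := hdeg j hj
      set R := Q - C (Q.coeff j / P.coeff j) * P with hR
      have hR' : (fun x => R.eval x) ∈ A := by
        by_cases hR0 : R = 0
        · intro g _; simp [hR0]
        have hRle : R.natDegree ≤ j := by
          refine (natDegree_sub_le _ _).trans (max_le hQ.le ?_)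
          exact natDegree_C_mul_le _ _ |>.trans h1.le
        have hRj : R.coeff j = 0 := by rw [hR, coeff_sub, coeff_C_mul, div_mul_cancel₀ _ h2, sub_self]
        rcases Nat.lt_or_ge R.natDegree j with hlt | hge
        · exact ih _ hlt R rfl (by omega)
        · exfalso
          have : R.natDegree = j := le_antisymm hRle hge
          exact leadingCoeff_ne_zero.2 hR0 (by rw [leadingCoeff, this]; exact hRj)
      have := hsub _ hR' _ h3 (-(Q.coeff j / P.coeff j))
      convert this using 1
      funext x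
      simp [hR]
  have hmon : ∀ i ≤ k, ∀ g ∈ Y, ∑ x : ZMod p, x ^ i * g x = 0 := by
    intro i hi g hg
    have := hall i (X ^ i) (natDegree_X_pow i) hi g hg
    simpa using this
  have hk3 : k + 3 ≤ p := by
    by_contra hlt
    have h := hmon (p - 2) (by omega) 1 (one_mem Y)
    have h2 := sum_eval (X ^ (p - 1) : (ZMod p)[X]) (by simp)
    simp only [eval_pow, eval_X, coeff_X_pow, if_true] at h2
    have e : ∀ x : ZMod p, x ^ (p - 2) * (1 : Equiv.Perm (ZMod p)) x = x ^ (p - 1) := fun x => by
      rw [Equiv.Perm.one_apply, ← pow_succ]; congr 1; omega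
    rw [sum_congr rfl (fun x _ => e x), h2] at h
    simp at h
  intro g hg
  obtain ⟨P, hP, hPe⟩ := exists_poly (g : ZMod p → ZMod p)
  set d := P.natDegree with hd
  have hgA : (fun x => g x) ∈ A := by
    have := hcomp _ (hall 1 X natDegree_X hk1) g hg
    simpa using this
  have hdk : d ≤ k := by
    by_cases hP0 : P = 0
    · simp [hd, hP0]
    exact hkmax d ⟨P, rfl, hP0, hP, by simpa only [hPe] using hgA⟩
  have hdlt : d + k + 1 < p := by
    by_contra hge
    have h := hmon (p - 1 - d) (by omega) g hg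
    have hP0 : P ≠ 0 := fun h0 => by simp [hd, h0] at hge; omega
    have hnd : (X ^ (p - 1 - d) * P : (ZMod p)[X]).natDegree = p - 1 := by
      rw [natDegree_mul (pow_ne_zero _ X_ne_zero) hP0, natDegree_X_pow, ← hd]; omega
    have h2 := sum_eval (X ^ (p - 1 - d) * P) hnd.le
    simp only [eval_mul, eval_pow, eval_X, hPe] at h2
    rw [h, zero_eq_neg] at h2
    have h3 := leadingCoeff_ne_zero.2 (mul_ne_zero (pow_ne_zero (p - 1 - d) (X_ne_zero (R := ZMod p))) hP0)
    rw [leadingCoeff, hnd] at h3
    exact h3 h2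
  by_contra hna
  have hd2 : 2 ≤ d := by
    by_contra hlt
    refine hna ⟨P.coeff 1, P.coeff 0, fun x => ?_⟩
    conv_lhs => rw [← hPe x, eq_X_add_C_of_natDegree_le_one (show P.natDegree ≤ 1 by omega)]
    simp
  set i := k / d + 1
  have h1 := Nat.div_add_mod k d
  have h2 := Nat.mod_lt k (show d > 0 by omega)
  have hik : i ≤ k := by
    show k / d + 1 ≤ k
    have : k / d ≤ k / 2 := Nat.div_le_div_left hd2 (by norm_num)
    omega
  have hi1 : k < i * d := by
    show k < (k / d + 1) * d
    rw [Nat.add_mul, one_mul, mul_comm]; omega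
  have hi2 : i * d < p := by
    show (k / d + 1) * d < p
    rw [Nat.add_mul, one_mul, mul_comm]; omega
  have hmem : (fun x => (P ^ i).eval x) ∈ A := by
    have := hcomp _ (hall i (X ^ i) (natDegree_X_pow i) hik) g hg
    simpa [hPe] using this
  have hnd : (P ^ i).natDegree = i * d := natDegree_pow P i
  have hP0 : P ≠ 0 := fun h0 => by simp [hd, h0] at hd2
  have := hkmax (i * d) ⟨P ^ i, hnd, pow_ne_zero _ hP0, hi2, hmem⟩
  omega

end Cfsg.Agent.Lib.PrimeLine
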